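import Cfsg.Agent.Lib.Steinberg.Conj
import Cfsg.Agent.Lib.Chev.BN2
import Cfsg.Agent.Lib.Chev.WeylN

/-!
The kernel of the projection of a group satisfying Steinberg's relations lies in the subgroup generated by
the lifted torus elements of the fundamental roots.
-/

set_option autoImplicit false

namespace CfsgLib.Steinberg

open Cfsg.Lie Matrix CfsgLib.Chev

variable {D : ChevalleyDatum} {A : Aux} {F : Type*} [Field F] {g : Good D A} {E : Type*} [Group E]

/-- Steinberg's relations, generation, and the table check. -/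
structure Data (h : Std D A) (P : Pre h.good F E) : Prop where
  st : IsSt P
  split : splitChk D A = true
  gen : Subgroup.closure {y | ∃ r t, r < D.nroots ∧ y = P.X r t} = (⊤ : Subgroup E)

/-- the lifted torus -/
def HB (P : Pre g F E) : Subgroup E :=
  Subgroup.closure {y | ∃ (i : ℕ) (t : F), i < D.rank ∧ t ≠ 0 ∧ y = HH P i t}

/-- the lifted monomial subgroup -/
def NB (P : Pre g F E) : Subgroup E :=
  Subgroup.closure {y | ∃ i, i < D.rank ∧ y = NN P i 1} ⊔ HB P

theorem HH_mem_HB (P : Pre g F E) {i : ℕ} (hi : i < D.rank) {t : F} (ht : t ≠ 0) :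
    HH P i t ∈ HB P := Subgroup.subset_closure ⟨i, t, hi, ht, rfl⟩

theorem Moves.mul {P : Pre g F E} {a b : E} {σ τ : ℕ → ℕ} {k l : ℕ → F} (ha : Moves P a σ k)
    (hb : Moves P b τ l) (hτ : ∀ r < D.nroots, τ r < D.nroots) :
    Moves P (a * b) (σ ∘ τ) (fun r => k (τ r) * l r) := by
  intro r hr u
  rw [show a * b * P.X r u * (a * b)⁻¹ = a * (b * P.X r u * b⁻¹) * a⁻¹ by group, hb r hr,
    ha _ (hτ r hr), mul_assoc]
  rfl

theorem Moves.one (P : Pre g F E) : Moves P (1 : E) id (fun _ => (1 : F)) := fun r _ u => by simp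

theorem moves_of_eq {P : Pre g F E} {y : E} {σ : ℕ → ℕ} {k k' : ℕ → F} (h : Moves P y σ k)
    (e : ∀ r < D.nroots, k r = k' r) : Moves P y σ k' := fun r hr u => by rw [h r hr, e r hr]

/-- every element of the lifted torus acts by a character, as its image does -/
theorem HB_moves {h : Std D A} {P : Pre h.good F E} (hd : Data h P) {y : E} (hy : y ∈ HB P) :
    ∃ c : Fin D.rank → Fˣ,
      Moves P y id (fun r => (chi D A c r : F)) ∧ P.π y = tor D A c := by
  induction hy using Subgroup.closure_induction with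
  | mem y hy =>
    obtain ⟨i, t, hi, ht, rfl⟩ := hy
    refine ⟨Pi.mulSingle ⟨i, hi⟩ (Units.mk0 t ht), moves_HH h hd.st hd.split ⟨i, hi⟩ (Units.mk0 t ht), ?_⟩
    rw [π_HH P hi, ← hG_simple h.good ⟨i, hi⟩, Units.val_mk0]
  | one => exact ⟨1, moves_of_eq (Moves.one P) (fun r _ => by simp [chi_one]), by simp⟩
  | mul a b _ _ ha hb =>
    obtain ⟨c, hc, hc'⟩ := ha
    obtain ⟨d, hd', hd''⟩ := hb
    refine ⟨c * d, moves_of_eq (hc.mul hd' fun r hr => hr) (fun r _ => ?_), by rw [map_mul, hc', hd'', map_mul]⟩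
    simp [chi_mul]
  | inv a _ ha =>
    obtain ⟨c, hc, hc'⟩ := ha
    refine ⟨c⁻¹, fun r hr u => ?_, by rw [map_inv, hc', map_inv]⟩
    have h1 : chi D A c⁻¹ r = (chi D A c r)⁻¹ :=
      eq_inv_of_mul_eq_one_left (by rw [← chi_mul, inv_mul_cancel, chi_one])
    have h2 := hc r hr (((chi D A c r)⁻¹ : Fˣ) * u)
    rw [← mul_assoc, Units.mul_inv, one_mul] at h2
    show a⁻¹ * P.X r u * a⁻¹⁻¹ = _
    simp only [id_eq, h1]
    conv_lhs => rw [← show _ = P.X r u from h2]
    group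

/-- the lifted torus normalises the lifts on a side -/
theorem HB_conj_XL {h : Std D A} {P : Pre h.good F E} (hd : Data h P) {L : List ℕ}
    (hL : ∀ r ∈ L, r < D.nroots) {y : E} (hy : y ∈ HB P) {z : E} (hz : z ∈ P.XL L) :
    y * z * y⁻¹ ∈ P.XL L := by
  obtain ⟨c, hc, -⟩ := HB_moves hd hy
  have : P.XL L ≤ (P.XL L).comap (MulAut.conj y).toMonoidHom := by
    refine (Subgroup.closure_le _).2 ?_
    rintro _ ⟨r, u, hr, rfl⟩
    show y * P.X r u * y⁻¹ ∈ P.XL L
    rw [hc r (hL r hr)]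
    exact P.X_mem_XL hr _
  exact this hz

theorem NN_sq (P : Pre g F E) {i : ℕ} (hi : i < D.rank) :
    NN P i (1 : F) * NN P i 1 = (HH P i (-1))⁻¹ := by
  rw [HH_neg_one, NN_neg P hi, ← _root_.mul_inv_rev, inv_inv]

/-- the torus moves `n_i` by a torus element -/
theorem HB_conj_NN {h : Std D A} {P : Pre h.good F E} (hd : Data h P) {y : E} (hy : y ∈ HB P)
    {i : ℕ} (hi : i < D.rank) : ∃ z ∈ HB P, y * NN P i 1 * y⁻¹ = z * NN P i 1 := by
  have g := h.good
  have hp := g.simple_lt i hi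
  obtain ⟨c, hc, -⟩ := HB_moves hd hy
  set t := chi D A c (D.simple i)
  refine ⟨HH P i (t : F), HH_mem_HB P hi t.ne_zero, ?_⟩
  rw [← NN_eq P hi, NN, NN, inv_one]
  rw [show y * (P.X (D.simple i) 1 * P.X (A.neg (D.simple i)) (-1) * P.X (D.simple i) 1) * y⁻¹ =
    (y * P.X (D.simple i) 1 * y⁻¹) * (y * P.X (A.neg (D.simple i)) (-1) * y⁻¹) *
      (y * P.X (D.simple i) 1 * y⁻¹) by group, hc _ hp, hc _ (g.neg_lt _ hp)]
  simp only [id_eq, chi_neg g c hp]
  simp [t]

/-- `n_i` normalises the lifted torus -/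
theorem NN_conj_HB {h : Std D A} {P : Pre h.good F E} (hd : Data h P) {i : ℕ} (hi : i < D.rank)
    {y : E} (hy : y ∈ HB P) :
    NN P i 1 * y * (NN P i 1)⁻¹ ∈ HB P ∧ (NN P i 1)⁻¹ * y * NN P i 1 ∈ HB P := by
  have key : ∀ y ∈ HB P, NN P i 1 * y * (NN P i 1)⁻¹ ∈ HB P := by
    intro y hy
    obtain ⟨z, hz, e⟩ := HB_conj_NN hd (inv_mem hy) hi
    have : NN P i 1 * y * (NN P i 1)⁻¹ = y * z := by
      rw [inv_inv] at e
      calc NN P i 1 * y * (NN P i 1)⁻¹ = y * (y⁻¹ * NN P i 1 * y) * (NN P i 1)⁻¹ := by group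
        _ = _ := by rw [e]; group
    rw [this]; exact mul_mem hy hz
  refine ⟨key y hy, ?_⟩
  have hs : HH P i (-1) ∈ HB P := HH_mem_HB P hi (neg_ne_zero.2 one_ne_zero)
  have e : (NN P i 1)⁻¹ * y * NN P i 1 =
      (NN P i 1 * NN P i 1)⁻¹ * (NN P i 1 * y * (NN P i 1)⁻¹) * (NN P i 1 * NN P i 1) := by group
  rw [e, NN_sq P hi, inv_inv]
  exact mul_mem (mul_mem hs (key y hy)) (inv_mem hs)

/-- a product of the `n_i` along a word -/
noncomputable def nB (P : Pre g F E) (w : List ℕ) : E := (w.map fun i => NN P i 1).prod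

/-- its scalars -/
noncomputable def kW (A : Aux) : List ℕ → ℕ → F
  | [], _ => 1
  | i :: w, r => (A.eta i (wf A w r) : F) * kW A w r

theorem kW_spec (g : Good D A) : ∀ {w : List ℕ}, Letters D w → ∀ {r : ℕ}, r < D.nroots →
    kW (F := F) A w (A.neg r) = kW A w r ∧ (kW (F := F) A w r * kW A w r = 1)
  | [], _, _, _ => ⟨rfl, one_mul _⟩
  | i :: w, h, r, hr => by
    obtain ⟨h1, h2⟩ := kW_spec g h.tail hr
    have hlt := wf_lt g h.tail hr
    simp only [kW]
    rw [(wf_rootMap g h.tail).map_neg g hr, h1]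
    refine ⟨?_, by linear_combination (A.eta i (wf A w r) : F) * (A.eta i (wf A w r)) * h2 + eta_sq (F := F) g h.head hlt⟩
    congr 2
    have := g.eta_neg i h.head _ hlt
    rcases g.eta_sign i h.head _ hlt with e | e <;> rw [e] at this ⊢ <;> omega

theorem nB_moves {h : Std D A} {P : Pre h.good F E} (hd : Data h P) : ∀ {w : List ℕ}, Letters D w →
    Moves P (nB P w) (wf A w) (kW A w) ∧ P.π (nB P w) = nW F h.good w
  | [], _ => ⟨Moves.one P, by simp [nB, nW]⟩
  | i :: w, hw => by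
    obtain ⟨h1, h2⟩ := nB_moves hd hw.tail
    have e : nB P (i :: w) = NN P i 1 * nB P w := by simp [nB]
    refine ⟨?_, by rw [e, map_mul, h2, π_NN P hw.head]; simp [nW, nS]⟩
    rw [e]
    exact (moves_NN h hd.st hd.split hw.head).mul h1 fun r hr => wf_lt h.good hw.tail hr

theorem NB_word {h : Std D A} {P : Pre h.good F E} (hd : Data h P) {y : E} (hy : y ∈ NB P) :
    ∃ z ∈ HB P, ∃ w, Letters D w ∧ y = z * nB P w := by
  have step : ∀ i < D.rank, ∀ z ∈ HB P, ∀ w, Letters D w →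
      ∃ z' ∈ HB P, NN P i 1 * (z * nB P w) = z' * nB P (i :: w) := by
    intro i hi z hz w _
    refine ⟨_, (NN_conj_HB hd hi hz).1, ?_⟩
    simp only [nB, List.map_cons, List.prod_cons]; group
  rw [NB, ← Subgroup.closure_eq (HB P), ← Subgroup.closure_union] at hy
  induction hy using Subgroup.closure_induction_left with
  | one => exact ⟨1, one_mem _, [], by simp [Letters], by simp [nB]⟩
  | mul_left a ha b _ ih =>
    obtain ⟨z, hz, w, hw, rfl⟩ := ih
    rcases ha with ⟨i, hi, rfl⟩ | ha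
    · obtain ⟨z', hz', e⟩ := step i hi z hz w hw
      exact ⟨z', hz', i :: w, hw.cons hi, e⟩
    · exact ⟨a * z, mul_mem ha hz, w, hw, by group⟩
  | inv_mul_cancel a ha b _ ih =>
    obtain ⟨z, hz, w, hw, rfl⟩ := ih
    rcases ha with ⟨i, hi, rfl⟩ | ha
    · obtain ⟨z', hz', e⟩ := step i hi z hz w hw
      refine ⟨HH P i (-1) * z', mul_mem (HH_mem_HB P hi (neg_ne_zero.2 one_ne_zero)) hz', i :: w,
        hw.cons hi, ?_⟩
      rw [mul_assoc, ← e, ← mul_assoc (HH P i (-1)), show (NN P i 1)⁻¹ = HH P i (-1) * NN P i 1 by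
        rw [← _root_.inv_inj, inv_inv, _root_.mul_inv_rev, ← NN_sq P hi]; group]
    · exact ⟨a⁻¹ * z, mul_mem (inv_mem ha) hz, w, hw, by group⟩

/-- a word acting trivially lies in the lifted torus -/
theorem nB_mem_HB {h : Std D A} {P : Pre h.good F E} (hd : Data h P) : ∀ (N : ℕ) {w : List ℕ},
    w.length ≤ N → Letters D w → (∀ r < D.nroots, wf A w r = r) → nB P w ∈ HB P
  | _, [], _, _, _ => by simp [nB, one_mem]
  | 0, _ :: _, hN, _, _ => by simp at hN
  | N + 1, i :: v, hN, hw, hid => by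
    have g := h.good
    have hi := hw.head
    have hp := g.simple_lt i hi
    have hv : wf A v (D.simple i) = A.neg (D.simple i) := by
      have := hid _ hp
      simp only [wf] at this
      rw [← refl_simple g hi, ← congrArg (A.refl i) this, g.refl_refl i hi _ (wf_lt g hw.tail hp)]
    have hvn : ¬ D.IsPosRoot (wf A v.reverse (D.simple i)) := by
      have e := (wf_rootMap g hw.tail.reverse).map_neg g hp
      rw [← hv, wf_rev_left g hw.tail hp] at e
      have hlt := wf_lt g hw.tail.reverse hp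
      intro hpos
      exact not_pos_neg g hpos (by rw [← e]; exact simple_pos g hi)
    obtain ⟨a, x, c, rfl, he⟩ := exists_deletion g hw.tail (simple_pos g hi) hvn
    obtain ⟨ha, hxc⟩ := List.forall_mem_append.1 hw.tail
    have hx : x < D.rank := (List.forall_mem_cons.1 hxc).1
    have hc : Letters D c := (List.forall_mem_cons.1 hxc).2
    have hxn := g.simple_lt x hx
    obtain ⟨hma, -⟩ := nB_moves hd (P := P) ha
    obtain ⟨hkn, hkk⟩ := kW_spec (F := F) g ha hxn
    set k : F := kW A a (D.simple x)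
    have hk0 : k ≠ 0 := fun e => by simp [e] at hkk
    have hswap : nB P a * NN P x 1 = HH P i k * NN P i 1 * nB P a := by
      rw [← NN_eq P hi, ← mul_inv_eq_iff_eq_mul, NN,
        show nB P a * (P.X (D.simple x) 1 * P.X (A.neg (D.simple x)) (-1⁻¹) * P.X (D.simple x) 1) *
          (nB P a)⁻¹ = (nB P a * P.X (D.simple x) 1 * (nB P a)⁻¹) *
            (nB P a * P.X (A.neg (D.simple x)) (-1⁻¹) * (nB P a)⁻¹) *
              (nB P a * P.X (D.simple x) 1 * (nB P a)⁻¹) by group,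
        hma _ hxn, hma _ (g.neg_lt _ hxn), (wf_rootMap g ha).map_neg g hxn, he, hkn, NN]
      have : k⁻¹ = k := inv_eq_of_mul_eq_one_right hkk
      simp [k, this] at *
    have hlen : (a ++ c).length ≤ N := by
      simp only [List.length_cons, List.length_append] at hN ⊢; omega
    have hid' : ∀ r < D.nroots, wf A (a ++ c) r = r := fun r hr =>
      (deletion_eq g ha hc hi hx he r hr).trans (hid r hr)
    have ih := nB_mem_HB hd (P := P) N hlen (Letters.append ha hc) hid'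
    have e : nB P (i :: (a ++ x :: c)) =
        (NN P i 1 * HH P i k * (NN P i 1)⁻¹) * (NN P i 1 * NN P i 1) * nB P (a ++ c) := by
      have e1 : nB P (i :: (a ++ x :: c)) = NN P i 1 * ((nB P a * NN P x 1) * nB P c) := by
        simp [nB, mul_assoc]
      have e2 : nB P (a ++ c) = nB P a * nB P c := by simp [nB]
      rw [e1, e2, hswap]; group
    rw [e, NN_sq P hi]
    exact mul_mem (mul_mem (NN_conj_HB hd hi (HH_mem_HB P hi hk0)).1
      (inv_mem (HH_mem_HB P hi (neg_ne_zero.2 one_ne_zero)))) ih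

/-- an element of the lifted monomial subgroup with torus image lies in the lifted torus -/
theorem mem_HB_of_NB {h : Std D A} {P : Pre h.good F E} (hd : Data h P) {y : E} (hy : y ∈ NB P)
    (ht : P.π y ∈ D.diagonalSubgroup F) : y ∈ HB P := by
  have g := h.good
  obtain ⟨z, hz, w, hw, rfl⟩ := NB_word hd hy
  obtain ⟨c, -, hc⟩ := HB_moves hd hz
  rw [diagonalSubgroup_eq h.good, map_mul, hc, (nB_moves hd hw).2] at ht
  obtain ⟨d, hd'⟩ := ht
  have e : nW F h.good w = tor D A (c⁻¹ * d) := by rw [map_mul, map_inv, hd']; group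
  refine mul_mem hz (nB_mem_HB hd w.length le_rfl hw fun r hr => ?_)
  exact (nW_acts (F := F) h.good hw).unique (e ▸ acts_tor h.good _) hr

/-- the lifted positive unipotent subgroup -/
noncomputable def UB (P : Pre g F E) : Subgroup E := P.XL (sideList D A 1)

/-- the lifted Borel subgroup -/
noncomputable def BB (P : Pre g F E) : Subgroup E := UB P ⊔ HB P

theorem closed_sideList (h : Std D A) {P : Pre h.good F E} (hP : IsSt P) {ε : ℤ}
    (hε : ε = 1 ∨ ε = -1) : Closed P ε (sideList D A ε) := by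
  intro x hx q hq hxq
  rw [mem_sideList hε] at hx hq
  refine ⟨hP x hx.1 q hq.1 (fun e => by subst e; omega) (fun e => ?_), fun t ht => ?_⟩
  · rw [e, CfsgLib.Chev.code_neg h.good hx.1, mul_neg] at hq
    linarith [hq.2, hx.2]
  · rw [mem_sideList hε]
    obtain ⟨h1, h2, -⟩ := term_code_lt h.good hx.1 hq.1 hx.2 hq.2 ht
    exact ⟨h1, by linarith [hx.2]⟩

theorem BB_eq {h : Std D A} {P : Pre h.good F E} (hd : Data h P) {y : E} (hy : y ∈ BB P) :
    ∃ u ∈ UB P, ∃ z ∈ HB P, y = u * z := by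
  have hn : HB P ≤ Subgroup.normalizer (UB P : Set E) := by
    intro z hz
    refine Subgroup.mem_normalizer_iff.2 fun u => ⟨fun hu => ?_, fun hu => ?_⟩
    · exact HB_conj_XL hd (fun r hr => ((mem_sideList (Or.inl rfl)).1 hr).1) hz hu
    · have := HB_conj_XL hd (fun r hr => ((mem_sideList (Or.inl rfl)).1 hr).1) (inv_mem hz) hu
      rwa [show z⁻¹ * (z * u * z⁻¹) * z⁻¹⁻¹ = u by group] at this
  rw [BB, ← SetLike.mem_coe, Subgroup.coe_mul_of_right_le_normalizer_left _ _ hn] at hy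
  obtain ⟨u, hu, z, hz, rfl⟩ := hy
  exact ⟨u, hu, z, hz, rfl⟩

theorem X_mem_UB (h : Std D A) (P : Pre h.good F E) {r : ℕ} (hr : D.IsPosRoot r) (t : F) :
    P.X r t ∈ UB P :=
  P.X_mem_XL ((mem_sideList (Or.inl rfl)).2 ⟨hr.1, by
    rw [one_mul]; exact (pos_iff_code h hr.1).1 hr⟩) t

theorem UB_le_BB {P : Pre g F E} : UB P ≤ BB P := le_sup_left
theorem HB_le_BB {P : Pre g F E} : HB P ≤ BB P := le_sup_right

theorem π_UB (h : Std D A) {P : Pre h.good F E} {u : E} (hu : u ∈ UB P) :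
    P.π u ∈ D.posUnipotent F := by
  have : UB P ≤ (D.posUnipotent F).comap P.π := by
    refine (Subgroup.closure_le _).2 ?_
    rintro _ ⟨r, t, hr, rfl⟩
    obtain ⟨hr1, hr2⟩ := (mem_sideList (Or.inl rfl)).1 hr
    show P.π (P.X r t) ∈ D.posUnipotent F
    rw [P.proj r hr1]
    exact xG_mem_posUnipotent h.good ((pos_iff_code h hr1).2 (by simpa using hr2)) t
  exact this hu

/-- `Ū = Ū_i X_i` -/
theorem UB_decomp {h : Std D A} {P : Pre h.good F E} (hd : Data h P) {i : ℕ} (hi : i < D.rank)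
    {u : E} (hu : u ∈ UB P) :
    ∃ v ∈ P.XL (butList D A 1 i), ∃ a, u = v * P.X (D.simple i) a := by
  have g := h.good
  have hp := g.simple_lt i hi
  have hn : ∀ t : F, ∀ z ∈ P.XL (butList D A 1 i),
      P.X (D.simple i) t * z * (P.X (D.simple i) t)⁻¹ ∈ P.XL (butList D A 1 i) := fun t z hz =>
    rk1_conj_mem h hd.st (Or.inl rfl) hi (X_simple_mem_rk1 P i t) hz
  induction hu using Subgroup.closure_induction with
  | one => exact ⟨1, one_mem _, 0, by simp [P.zero hp]⟩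
  | mul a b _ _ ha hb =>
    obtain ⟨v, hv, s, rfl⟩ := ha
    obtain ⟨w, hw, t, rfl⟩ := hb
    refine ⟨v * (P.X (D.simple i) s * w * (P.X (D.simple i) s)⁻¹), mul_mem hv (hn s w hw), s + t, ?_⟩
    rw [← P.add _ hp]; group
  | inv a _ ha =>
    obtain ⟨v, hv, s, rfl⟩ := ha
    refine ⟨P.X (D.simple i) (-s) * v⁻¹ * (P.X (D.simple i) (-s))⁻¹, hn _ _ (inv_mem hv), -s, ?_⟩
    rw [← P.inv hp]; group
  | mem a ha =>
    obtain ⟨r, t, hr, rfl⟩ := ha
    obtain ⟨hr1, hr2⟩ := (mem_sideList (Or.inl rfl)).1 hr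
    by_cases e : r = D.simple i
    · exact ⟨1, one_mem _, t, by rw [one_mul, e]⟩
    · refine ⟨P.X r t, P.X_mem_XL ((mem_butList h (Or.inl rfl)).2 ?_) t, 0, by simp [P.zero hp]⟩
      rw [one_mul] at hr2
      rcases mem_But_or h hi hr1 e (fun e' => by
        have := (pos_iff_code h hr1).2 hr2
        exact not_pos_neg g (simple_pos g hi) (e' ▸ this)) with h' | h'
      · exact h'
      · have := h'.code_pos h (Or.inr rfl); omega

/-- the lifted rule `n_i B n ⊆ B n_i n B ∪ B n B` -/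
theorem bn_lift {h : Std D A} {P : Pre h.good F E} (hd : Data h P) {i : ℕ} (hi : i < D.rank)
    {b n : E} (hb : b ∈ BB P) (hn : n ∈ NB P) :
    ∃ b₁ ∈ BB P, ∃ n' ∈ NB P, ∃ b₂ ∈ BB P, NN P i 1 * b * n = b₁ * n' * b₂ := by
  have g := h.good
  have hp := g.simple_lt i hi
  obtain ⟨u, hu, z, hz, rfl⟩ := BB_eq hd hb
  obtain ⟨v, hv, a, rfl⟩ := UB_decomp hd hi hu
  set s := NN P i (1 : F)
  have hsN : s ∈ NB P := (le_sup_left : _ ≤ NB P) (Subgroup.subset_closure ⟨i, hi, rfl⟩)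
  have hv' : s * v * s⁻¹ ∈ BB P := UB_le_BB (by
    have := rk1_conj_mem h hd.st (Or.inl rfl) hi (NN_mem_rk1 P i 1) hv
    refine Subgroup.closure_mono ?_ this
    rintro _ ⟨r, t, hr, rfl⟩
    have hb' := (mem_butList h (Or.inl rfl)).1 hr
    exact ⟨r, t, (mem_sideList (Or.inl rfl)).2 ⟨hb'.1, hb'.code_pos h (Or.inl rfl)⟩, rfl⟩)
  suffices ∀ m ∈ NB P, ∃ b₁ ∈ BB P, ∃ n' ∈ NB P, ∃ b₂ ∈ BB P,
      s * P.X (D.simple i) a * m = b₁ * n' * b₂ by
    obtain ⟨b₁, h1, n', h2, b₂, h3, e⟩ := this (z * n) (mul_mem ((le_sup_right : _ ≤ NB P) hz) hn)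
    refine ⟨s * v * s⁻¹ * b₁, mul_mem hv' h1, n', h2, b₂, h3, ?_⟩
    calc s * (v * P.X (D.simple i) a * z) * n = s * v * s⁻¹ * (s * P.X (D.simple i) a * (z * n)) := by
          group
      _ = _ := by rw [e]; group
  intro m hm
  obtain ⟨y, hy, w, hw, hm'⟩ := NB_word hd hm
  obtain ⟨c, hcy, -⟩ := HB_moves hd hy
  have hmm : Moves P m (wf A w) fun r => (chi D A c (wf A w r) : F) * kW A w r :=
    hm' ▸ hcy.mul (nB_moves hd hw).1 fun r hr => wf_lt g hw hr
  have hk : ∀ r < D.nroots, (chi D A c (wf A w r) : F) * kW A w r ≠ 0 := fun r hr =>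
    mul_ne_zero (Units.ne_zero _) fun e => by
      have := (kW_spec (F := F) g hw hr).2
      rw [e] at this; simp at this
  set q := wf A w.reverse (D.simple i)
  have hq : q < D.nroots := wf_lt g hw.reverse hp
  have hσq : wf A w q = D.simple i := wf_rev_right g hw hp
  have push : ∀ (m : E) (σ : ℕ → ℕ) (k : ℕ → F), Moves P m σ k → ∀ r < D.nroots, k r ≠ 0 →
      ∀ x : F, P.X (σ r) x * m = m * P.X r ((k r)⁻¹ * x) := fun m σ k hmv r hr hk x => by
    have := hmv r hr ((k r)⁻¹ * x)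
    rw [mul_inv_cancel_left₀ hk] at this
    rw [← this]; group
  rcases pos_or_pos_neg g hq with hpos | hneg
  · refine ⟨1, one_mem _, s * m, mul_mem hsN hm, _,
      UB_le_BB (X_mem_UB h P hpos (((chi D A c (wf A w q) : F) * kW A w q)⁻¹ * a)), ?_⟩
    rw [one_mul, mul_assoc s m, ← push m _ _ hmm q hq (hk q hq) a, hσq]; group
  rcases eq_or_ne a 0 with rfl | ha
  · exact ⟨1, one_mem _, s * m, mul_mem hsN hm, 1, one_mem _, by simp [P.zero hp]⟩
  have hw0 : (A.eta i (D.simple i) : F) * a ≠ 0 := mul_ne_zero (eta_ne_zero g hi hp) ha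
  set t := (A.eta i (D.simple i) : F) * a
  have e1 : s * P.X (D.simple i) a = P.X (A.neg (D.simple i)) t * s := by
    rw [← mul_inv_eq_iff_eq_mul, moves_NN h hd.st hd.split hi _ hp, refl_simple g hi]
  have e2 : P.X (A.neg (D.simple i)) t =
      P.X (D.simple i) t⁻¹ * (HH P i (-t⁻¹) * s) * P.X (D.simple i) t⁻¹ := by
    rw [← NN_eq P hi, NN, inv_neg, inv_inv, neg_neg, ← P.inv hp t⁻¹]; group
  have hqn := g.neg_lt q hq
  have hsm := (moves_NN h hd.st hd.split hi).mul hmm fun r hr => wf_lt g hw hr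
  have e3 := push _ _ _ hsm (A.neg q) hqn (mul_ne_zero (eta_ne_zero g hi (wf_lt g hw hqn)) (hk _ hqn)) t⁻¹
  simp only [Function.comp_apply, (wf_rootMap g hw).map_neg g hq, hσq, g.refl_neg i hi _ hp,
    refl_simple g hi, g.neg_neg _ hp] at e3
  refine ⟨P.X (D.simple i) t⁻¹ * HH P i (-t⁻¹) * (s * s), ?m1, m, hm, ?b2, ?m2, ?eq⟩
  case eq =>
    rw [e1, e2]
    simp only [mul_assoc]
    rw [e3]
    simp only [s, mul_assoc]
    rfl
  case m1 =>
    refine mul_mem (mul_mem (UB_le_BB (X_mem_UB h P (simple_pos g hi) _))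
      (HB_le_BB (HH_mem_HB P hi (neg_ne_zero.2 (inv_ne_zero hw0))))) (HB_le_BB ?_)
    rw [NN_sq P hi]; exact inv_mem (HH_mem_HB P hi (neg_ne_zero.2 one_ne_zero))
  case m2 => exact UB_le_BB (X_mem_UB h P hneg _)

/-- the group is generated by the lifts of the fundamental root elements and the `n_i` -/
theorem gen_simple {h : Std D A} {P : Pre h.good F E} (hd : Data h P) :
    Subgroup.closure ({y | ∃ i t, i < D.rank ∧ y = P.X (D.simple i) t} ∪
      {y | ∃ i, i < D.rank ∧ y = NN P i 1}) = ⊤ := by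
  have g := h.good
  rw [eq_top_iff, ← hd.gen, Subgroup.closure_le]
  rintro _ ⟨r, t, hr, rfl⟩
  revert t
  revert r
  refine root_induction g (fun j hj _ t => Subgroup.subset_closure (Or.inl ⟨j, t, hj, rfl⟩)) ?_
  intro i hi r hr ih t
  have hn := Subgroup.subset_closure (G := E)
    (k := {y | ∃ i t, i < D.rank ∧ y = P.X (D.simple i) t} ∪ {y | ∃ i, i < D.rank ∧ y = NN P i 1})
    (Or.inr ⟨i, hi, rfl⟩)
  have := mul_mem (mul_mem hn (ih ((A.eta i r : F) * t))) (inv_mem hn)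
  rwa [moves_NN h hd.st hd.split hi r hr, ← mul_assoc, eta_sq g hi hr, one_mul] at this

/-- Bruhat decomposition of the lifted group -/
theorem bruhat_lift {h : Std D A} {P : Pre h.good F E} (hd : Data h P) (y : E) :
    ∃ b₁ ∈ BB P, ∃ n ∈ NB P, ∃ b₂ ∈ BB P, y = b₁ * n * b₂ := by
  have g := h.good
  have hy : y ∈ Subgroup.closure ({y | ∃ i t, i < D.rank ∧ y = P.X (D.simple i) t} ∪
      {y | ∃ i, i < D.rank ∧ y = NN P i 1}) := by rw [gen_simple hd]; trivial
  have stepB : ∀ a ∈ BB P, ∀ y, (∃ b₁ ∈ BB P, ∃ n ∈ NB P, ∃ b₂ ∈ BB P, y = b₁ * n * b₂) →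
      ∃ b₁ ∈ BB P, ∃ n ∈ NB P, ∃ b₂ ∈ BB P, a * y = b₁ * n * b₂ := by
    rintro a ha y ⟨b₁, h1, n, h2, b₂, h3, rfl⟩
    exact ⟨a * b₁, mul_mem ha h1, n, h2, b₂, h3, by group⟩
  have stepN : ∀ i < D.rank, ∀ y, (∃ b₁ ∈ BB P, ∃ n ∈ NB P, ∃ b₂ ∈ BB P, y = b₁ * n * b₂) →
      ∃ b₁ ∈ BB P, ∃ n ∈ NB P, ∃ b₂ ∈ BB P, NN P i 1 * y = b₁ * n * b₂ := by
    rintro i hi y ⟨b₁, h1, n, h2, b₂, h3, rfl⟩
    obtain ⟨c₁, g1, m, g2, c₂, g3, e⟩ := bn_lift hd hi h1 h2
    refine ⟨c₁, g1, m, g2, c₂ * b₂, mul_mem g3 h3, ?_⟩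
    rw [← mul_assoc, ← mul_assoc, ← mul_assoc, e]
  induction hy using Subgroup.closure_induction_left with
  | one => exact ⟨1, one_mem _, 1, one_mem _, 1, one_mem _, by simp⟩
  | mul_left a ha b _ ih =>
    rcases ha with ⟨i, t, hi, rfl⟩ | ⟨i, hi, rfl⟩
    · exact stepB _ (UB_le_BB (X_mem_UB h P (simple_pos g hi) t)) _ ih
    · exact stepN i hi _ ih
  | inv_mul_cancel a ha b _ ih =>
    rcases ha with ⟨i, t, hi, rfl⟩ | ⟨i, hi, rfl⟩
    · exact stepB _ (inv_mem (UB_le_BB (X_mem_UB h P (simple_pos g hi) t))) _ ih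
    · rw [show (NN P i 1)⁻¹ = HH P i (-1) * NN P i 1 by
        rw [← _root_.inv_inj, inv_inv, _root_.mul_inv_rev, ← NN_sq P hi]; group, mul_assoc]
      exact stepB _ (HB_le_BB (HH_mem_HB P hi (neg_ne_zero.2 one_ne_zero))) _ (stepN i hi _ ih)

/-- the kernel of the projection lies in the lifted torus -/
theorem ker_le_HB {h : Std D A} {P : Pre h.good F E} (hd : Data h P) : P.π.ker ≤ HB P := by
  have g := h.good
  intro y hy
  rw [MonoidHom.mem_ker] at hy
  obtain ⟨b₁, h1, n, hn, b₂, h2, rfl⟩ := bruhat_lift hd y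
  have hB : ∀ b ∈ BB P, P.π b ∈ D.borelSubgroup F := by
    intro b hb
    obtain ⟨u, hu, z, hz, rfl⟩ := BB_eq hd hb
    obtain ⟨c, -, hc⟩ := HB_moves hd hz
    rw [map_mul, hc]
    exact mul_mem (pos_le_borel (π_UB h hu)) (tor_mem_borel h.good c)
  have hnB : P.π n ∈ D.borelSubgroup F := by
    rw [map_mul, map_mul] at hy
    rw [show P.π n = (P.π b₁)⁻¹ * (P.π b₁ * P.π n * P.π b₂) * (P.π b₂)⁻¹ by group, hy, mul_one]
    exact mul_mem (inv_mem (hB _ h1)) (inv_mem (hB _ h2))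
  have hnN : P.π n ∈ D.monomialSubgroup F := by
    obtain ⟨z, hz, w, hw, rfl⟩ := NB_word hd hn
    obtain ⟨c, -, hc⟩ := HB_moves hd hz
    rw [map_mul, hc, (nB_moves hd hw).2]
    exact mul_mem (tor_mem_monomial h.good c) (nW_mem h.good hw)
  have hnH : n ∈ HB P := mem_HB_of_NB hd hn (by
    rw [← borel_inf_monomial h]; exact ⟨hnB, hnN⟩)
  obtain ⟨u, hu, z, hz, e⟩ := BB_eq hd (mul_mem (mul_mem h1 (HB_le_BB hnH)) h2)
  rw [e] at hy ⊢
  obtain ⟨c, -, hc⟩ := HB_moves hd hz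
  have hu1 : P.π u = 1 := by
    refine Subgroup.mem_bot.1 ((posUnipotent_inf_diagonal h).le ?_)
    refine Subgroup.mem_inf.2 ⟨π_UB h hu, ?_⟩
    rw [map_mul] at hy
    rw [eq_inv_of_mul_eq_one_left hy, hc, diagonalSubgroup_eq h.good, ← map_inv]
    exact ⟨c⁻¹, rfl⟩
  rw [XL_eq_one P (sideList_sorted h (Or.inl rfl)) (closed_sideList h hd.st (Or.inl rfl)) hu hu1,
    one_mul]
  exact hz

/-- the kernel of the projection is central -/
theorem ker_le_center {h : Std D A} {P : Pre h.good F E} (hd : Data h P) :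
    P.π.ker ≤ Subgroup.center E := by
  intro y hy
  obtain ⟨c, hc, hc'⟩ := HB_moves hd (ker_le_HB hd hy)
  rw [MonoidHom.mem_ker] at hy
  rw [hy] at hc'
  have hchi : ∀ r < D.nroots, (chi D A c r : F) = 1 := by
    intro r hr
    have h2 : (1 : Matrix D.Idx D.Idx F) = dia D fun s => (chi D A c s : F) := by
      rw [← tor_val, ← hc']; rfl
    have := congrFun (congrFun h2 (Sum.inr ⟨r, hr⟩)) (Sum.inr ⟨r, hr⟩)
    simpa [dia] using this.symm
  rw [Subgroup.mem_center_iff]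
  intro z
  have hz : z ∈ Subgroup.closure {y | ∃ r t, r < D.nroots ∧ y = P.X r t} := by rw [hd.gen]; trivial
  induction hz using Subgroup.closure_induction with
  | mem a ha =>
    obtain ⟨r, t, hr, rfl⟩ := ha
    have := hc r hr t
    simp only [id_eq, hchi r hr, one_mul] at this
    rw [mul_inv_eq_iff_eq_mul] at this
    exact this.symm
  | one => simp
  | mul a b _ _ ha hb => rw [mul_assoc, hb, ← mul_assoc, ha, mul_assoc]
  | inv a _ ha => exact (Commute.inv_left ha).eq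

/-- the image of the projection is the Chevalley group -/
theorem range_π {h : Std D A} {P : Pre h.good F E} (hd : Data h P) : P.π.range = D.group F := by
  rw [MonoidHom.range_eq_map, ← hd.gen, MonoidHom.map_closure, group_eq h.good]
  congr 1
  ext y
  constructor
  · rintro ⟨_, ⟨r, t, hr, rfl⟩, rfl⟩; exact ⟨r, t, hr, P.proj r hr t⟩
  · rintro ⟨r, t, hr, rfl⟩; exact ⟨_, ⟨r, t, hr, rfl⟩, P.proj r hr t⟩

/-- the Chevalley group has trivial centre -/
theorem group_center (h : Std D A) : Subgroup.center ↥(D.group F) = ⊥ := by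
  have hle : Subgroup.center ↥(D.group F) ≤ (D.borelSubgroup F).subgroupOf (D.group F) := by
    intro z hz
    refine BN.mem_of_conj_B_le (P := bnPair h) le_rfl fun b hb => ?_
    rw [← Subgroup.mem_center_iff.1 hz b, mul_inv_cancel_right]
    exact hb
  have := Subgroup.normal_le_normalCore.2 hle
  rwa [borel_core_trivial h, le_bot_iff] at this

/-- the centre is the kernel of the projection -/
theorem center_eq_ker {h : Std D A} {P : Pre h.good F E} (hd : Data h P) :
    Subgroup.center E = P.π.ker := by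
  refine le_antisymm (fun y hy => ?_) (ker_le_center hd)
  rw [MonoidHom.mem_ker]
  have hm : P.π y ∈ D.group F := range_π hd ▸ ⟨y, rfl⟩
  have hc : (⟨P.π y, hm⟩ : ↥(D.group F)) ∈ Subgroup.center ↥(D.group F) := by
    rw [Subgroup.mem_center_iff]
    rintro ⟨z, hz⟩
    rw [← range_π hd] at hz
    obtain ⟨x, rfl⟩ := hz
    refine Subtype.ext ?_
    show P.π x * P.π y = P.π y * P.π x
    rw [← map_mul, ← map_mul, Subgroup.mem_center_iff.1 hy x]
  rw [group_center h, Subgroup.mem_bot] at hc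
  exact congrArg Subtype.val hc

end CfsgLib.Steinberg
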