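import Cfsg.Agent.Lib.Steinberg.Universal

/-!
The seven types: the universal property of the group of the relators (R1), (R2).
-/

set_option autoImplicit false

namespace CfsgLib.Steinberg

open Cfsg.Lie CfsgLib.Chev

theorem uni_of_mem {D : ChevalleyDatum}
    (hD : D ∈ [chevG2, chevB2, chevD4, chevF4, chevE6, chevE7, chevE8]) :
    ∃ A, Std D A ∧ splitChk D A = true ∧ abChk D A = true ∧ prChk D A = true := by
  simp only [List.mem_cons, List.not_mem_nil, or_false] at hD
  rcases hD with rfl | rfl | rfl | rfl | rfl | rfl | rfl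
  · exact ⟨_, stdG2, splitG2, by decide +kernel, by decide +kernel⟩
  · exact ⟨_, stdB2, splitB2, by decide +kernel, by decide +kernel⟩
  · exact ⟨_, stdD4, splitD4, by decide +kernel, by decide +kernel⟩
  · exact ⟨_, stdF4, splitF4, by decide +kernel, by decide +kernel⟩
  · exact ⟨_, stdE6, splitE6, by decide +kernel, by decide +kernel⟩
  · exact ⟨_, stdE7, splitE7, by decide +kernel, by decide +kernel⟩
  · exact ⟨_, stdE8, splitE8, by decide +kernel, by decide +kernel⟩

theorem perfect_cover {K : Type*} [Field K] {D : ChevalleyDatum}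
    (hD : D ∈ [chevG2, chevB2, chevD4, chevF4, chevE6, chevE7, chevE8])
    (hK : D ∈ [chevB2, chevG2] → ∃ x : K, x ≠ 0 ∧ x ≠ 1) : commutator (D.SteinbergCover K) = ⊤ := by
  obtain ⟨A, h, hC, hp⟩ := perfect_of_mem hD hK
  exact hp _ (presData h hC (le_refl _) (relsAB_subset K))

theorem exists_third {K : Type*} [Field K] (hK5 : ∃ s : Finset K, 4 < s.card) :
    ∃ x : K, x ≠ 0 ∧ x ≠ 1 := by
  obtain ⟨a, h0, h1, -⟩ := exists_avoid hK5 0
  exact ⟨a, h0, h1⟩

/-- every central extension of the group splits -/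
theorem exists_splitting {K : Type*} [Field K] {D : ChevalleyDatum}
    (hD : D ∈ [chevG2, chevB2, chevD4, chevF4, chevE6, chevE7, chevE8])
    (hK5 : ∃ s : Finset K, 4 < s.card) {X : Type*} [Group X] (q : X →* D.SteinbergCover K)
    (hq : Function.Surjective q) (hc : q.ker ≤ Subgroup.center X) :
    ∃ τ : D.SteinbergCover K →* X, q.comp τ = MonoidHom.id _ := by
  obtain ⟨A, h, hC, hA, hP⟩ := uni_of_mem hD
  have hperf := perfect_cover hD fun _ => exists_third hK5
  have hx : Ext h (presPre h (le_refl (D.steinbergRelsAB K)) (relsAB_subset K)) q :=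
    ⟨presData h hC _ _, hperf, hq, hc⟩
  obtain ⟨L, hL⟩ := hx.exists_isSt (hx.movable_of_large h.good hK5) (hx.ab_all hA hK5)
    (hx.separated_of_large hP hK5)
  exact exists_section hC L hL

/-- two lifts of a map from a perfect group along a central extension agree -/
theorem lift_unique {G₀ G₁ E : Type*} [Group G₀] [Group G₁] [Group E] (hperf : commutator G₀ = ⊤)
    (π₁ : E →* G₁) (hc : π₁.ker ≤ Subgroup.center E) {τ τ' : G₀ →* E}
    (e : π₁.comp τ = π₁.comp τ') : τ = τ' := by
  letI : CommGroup (Subgroup.center E) :=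
    { (inferInstance : Group (Subgroup.center E)) with
      mul_comm := fun a b => Subtype.ext (Subgroup.mem_center_iff.1 b.2 a) }
  have hz : ∀ x, τ' x * (τ x)⁻¹ ∈ Subgroup.center E := fun x => hc (by
    rw [MonoidHom.mem_ker, map_mul, map_inv, show π₁ (τ' x) = π₁ (τ x) from (DFunLike.congr_fun e x).symm,
      mul_inv_cancel])
  let φ : G₀ →* Subgroup.center E := MonoidHom.mk' (fun x => ⟨τ' x * (τ x)⁻¹, hz x⟩) fun a b => by
    refine Subtype.ext ?_
    show τ' (a * b) * (τ (a * b))⁻¹ = (τ' a * (τ a)⁻¹) * (τ' b * (τ b)⁻¹)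
    rw [map_mul, map_mul, _root_.mul_inv_rev,
      show τ' a * τ' b * ((τ b)⁻¹ * (τ a)⁻¹) = τ' a * ((τ' b * (τ b)⁻¹) * (τ a)⁻¹) by group,
      ← Subgroup.mem_center_iff.1 (hz b) (τ a)⁻¹]
    group
  ext x
  have := Abelianization.commutator_subset_ker φ (show x ∈ commutator G₀ by rw [hperf]; trivial)
  have h2 : τ' x * (τ x)⁻¹ = 1 := congrArg Subtype.val this
  exact (mul_inv_eq_one.1 h2).symm

end CfsgLib.Steinberg
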