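import Cfsg.Agent.Lib.Steinberg.Embed
import Cfsg.Agent.Lib.Steinberg.UniversalTypes
import Cfsg.Agent.Lib.Schur.Splits

/-!
A perfect group all whose central extensions split gives the Schur multiplier of its central quotients.
-/

set_option autoImplicit false

namespace CfsgLib.Steinberg

open Cfsg.Lie CfsgLib.Chev
open scoped commutatorElement

universe u v

theorem equiv_zmod {M : Type*} [Group M] [Finite M] {n : ℕ} (hn : n = 1 ∨ n.Prime)
    (h : Nat.card M = n) : Nonempty (M ≃* Multiplicative (ZMod n)) := by
  have : IsCyclic M := by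
    rcases hn with rfl | hp
    · have := (Nat.card_eq_one_iff_unique.1 h).1
      exact isCyclic_of_subsingleton
    · haveI := Fact.mk hp
      exact isCyclic_of_prime_card h
  exact ⟨mulEquivOfCyclicCardEq (by rw [h, Nat.card_congr Multiplicative.toAdd, Nat.card_zmod])⟩

variable {F : Type u} [Field F] [Fintype F] {D : ChevalleyDatum} {A : Aux}

theorem finite_cover (h : Std D A) (hC : splitChk D A = true) : Finite (D.SteinbergCover F) := by
  classical
  have hd := presData h hC (le_refl (D.steinbergRelsAB F)) (relsAB_subset F)
  set P := presPre h (le_refl (D.steinbergRelsAB F)) (relsAB_subset F)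
  have hm : MulHH P := fun i hi s t => HH_mul hd hi s t
  have hk : Finite P.π.ker := by
    rw [← center_eq_ker hd, center_eq_map hd hm]
    exact Set.Finite.to_subtype (Set.Finite.image _ (Set.toFinite _))
  have hq : Finite (D.SteinbergCover F ⧸ P.π.ker) :=
    Finite.of_equiv _ (QuotientGroup.quotientKerEquivRange P.π).symm.toEquiv
  exact Finite.of_subgroup_quotient P.π.ker

/-- the multiplier of the Chevalley group from the splitting of its cover -/
theorem multiplier_group (h : Std D A) (hC : splitChk D A = true) (hs : Splits (D.SteinbergCover F))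
    (hperf : commutator (D.SteinbergCover F) = ⊤) {n : ℕ} (hn : n = 1 ∨ n.Prime)
    (hcard : Nat.card (Subgroup.center (D.SteinbergCover F)) = n) :
    Cfsg.HasCyclicSchurMultiplier ↥(D.group F) n := by
  haveI := finite_cover (F := F) h hC
  obtain ⟨h1, h2, -⟩ := presProj_spec h hC (le_refl (D.steinbergRelsAB F)) (relsAB_subset F)
  rw [← h2] at hcard
  obtain ⟨e⟩ := equiv_zmod hn hcard
  exact hasMultiplier hs hperf _ h1 h2.le e

/-- trivial centre for a unimodular Cartan matrix -/
theorem card_center_bot (h : Std D A) (hC : splitChk D A = true)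
    {U Ui V Vi : Matrix (Fin D.rank) (Fin D.rank) ℤ}
    (hc : smithCheck D A U Ui V Vi (fun _ => 1) = true) :
    Nat.card (Subgroup.center (D.SteinbergCover F)) = 1 := by
  have hd := presData h hC (le_refl (D.steinbergRelsAB F)) (relsAB_subset F)
  rw [center_eq_map hd (fun i hi s t => HH_mul hd hi s t),
    (MonoidHom.ker_eq_bot_iff _).2 (tor_injective h.good hc), Subgroup.map_bot, Subgroup.card_bot]

end CfsgLib.Steinberg
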