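import Cfsg.Agent.Lib.Steinberg.Presented

/-!
Over a finite field the lifted torus elements multiply as scalars do.
-/

set_option autoImplicit false

namespace CfsgLib.Steinberg

open Cfsg.Lie Matrix CfsgLib.Chev

variable {D : ChevalleyDatum} {A : Aux} {F : Type*} [Field F] {E : Type*} [Group E]

section rankOne

variable {h : Std D A} {P : Pre h.good F E}

theorem HH_one (hi : ℕ) (hlt : hi < D.rank) : HH P hi (1 : F) = 1 := by
  rw [HH, NN_neg P hlt, mul_inv_cancel]

theorem chi_single (g : Good D A) {i : ℕ} (hi : i < D.rank) (t : Fˣ) :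
    (chi D A (Pi.mulSingle ⟨i, hi⟩ t) (D.simple i) : F) = (t : F) * t := by
  rw [exists_torus' hi hi, g.cart_simple i hi, zpow_two, Units.val_mul]
where
  exists_torus' {i : ℕ} (hi : i < D.rank) {j : ℕ} (hj : j < D.rank) :
      chi D A (Pi.mulSingle (⟨j, hj⟩ : Fin D.rank) t) (D.simple i) = t ^ A.cart j (D.simple i) := by
    rw [chi, Finset.prod_eq_single ⟨j, hj⟩]
    · simp
    · intro k _ hk; simp [hk]
    · simp

theorem NN_moves_simple (hd : Data h P) {i : ℕ} (hi : i < D.rank) (u : Fˣ) (v : F) :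
    NN P i (u : F) * P.X (D.simple i) v * (NN P i (u : F))⁻¹ =
        P.X (A.neg (D.simple i)) (-v / ((u : F) * u)) ∧
      NN P i (u : F) * P.X (A.neg (D.simple i)) v * (NN P i (u : F))⁻¹ =
        P.X (D.simple i) (-((u : F) * u) * v) := by
  have g := h.good
  have hp := g.simple_lt i hi
  have hn := g.neg_lt _ hp
  have hh := moves_HH h hd.st hd.split ⟨i, hi⟩ u
  have hw := moves_NN h hd.st hd.split hi
  have hs := chi_single g hi u
  have hs' : (chi D A (Pi.mulSingle (⟨i, hi⟩ : Fin D.rank) u) (A.neg (D.simple i)) : F) =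
      ((u : F) * u)⁻¹ := by rw [chi_neg g _ hp, Units.val_inv_eq_inv_val, hs]
  have hen : A.eta i (A.neg (D.simple i)) = -1 := by
    have := g.eta_neg i hi _ hp
    rw [g.eta_simple i hi] at this
    omega
  rw [NN_eq P hi]
  have e : ∀ (r : ℕ) (v : F), HH P i (u : F) * NN P i 1 * P.X r v * (HH P i (u : F) * NN P i 1)⁻¹ =
      HH P i (u : F) * (NN P i 1 * P.X r v * (NN P i 1)⁻¹) * (HH P i (u : F))⁻¹ := fun r v => by group
  constructor
  · rw [e, hw _ hp, refl_simple g hi, hh _ hn, id_eq]
    simp only [hs', g.eta_simple i hi]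
    congr 1
    push_cast
    field_simp
  · rw [e, hw _ hn, g.refl_neg i hi _ hp, refl_simple g hi, g.neg_neg _ hp, hh _ hp, id_eq]
    simp only [hs, hen]
    congr 1
    push_cast
    ring

theorem HH_conj_NN (hd : Data h P) {i : ℕ} (hi : i < D.rank) (t : Fˣ) (s : F) :
    HH P i (t : F) * NN P i s * (HH P i (t : F))⁻¹ = NN P i ((t : F) * t * s) := by
  have g := h.good
  have hp := g.simple_lt i hi
  have hh := moves_HH h hd.st hd.split ⟨i, hi⟩ t
  have hs := chi_single g hi t
  rw [NN, show ∀ a b c y : E, y * (a * b * c) * y⁻¹ = (y * a * y⁻¹) * (y * b * y⁻¹) * (y * c * y⁻¹)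
    from fun a b c y => by group, hh _ hp, hh _ (g.neg_lt _ hp), NN]
  simp only [id_eq, hs, chi_neg g _ hp, Units.val_inv_eq_inv_val, mul_inv, mul_neg]

/-- `h(a) h(1 - a) = h(a (1 - a))` -/
theorem HH_mul_one_sub (hd : Data h P) {i : ℕ} (hi : i < D.rank) (a b : Fˣ)
    (hab : (a : F) + b = 1) : HH P i (a : F) * HH P i (b : F) = HH P i ((a : F) * b) := by
  have g := h.good
  have hp := g.simple_lt i hi
  have hn := g.neg_lt _ hp
  set x := fun v : F => P.X (D.simple i) v with hx
  set y := fun v : F => P.X (A.neg (D.simple i)) v with hy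
  have xa : ∀ v w, x v * x w = x (v + w) := fun v w => P.add _ hp v w
  have ya : ∀ v w, y v * y w = y (v + w) := fun v w => P.add _ hn v w
  have ha := a.ne_zero
  have hb := b.ne_zero
  set w := fun v : F => NN P i v with hw
  have wdef : ∀ v, w v = x v * y (-v⁻¹) * x v := fun v => rfl
  have winv : ∀ v, w (-v) = (w v)⁻¹ := fun v => NN_neg P hi v
  have mvx : ∀ (u : Fˣ) (v : F), w (u : F) * x v = y (-v / ((u : F) * u)) * w (u : F) := fun u v => by
    show NN P i (u : F) * P.X _ v = P.X _ _ * NN P i (u : F)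
    rw [← (NN_moves_simple hd hi u v).1]; group
  have mvy : ∀ (u : Fˣ) (v : F), w (u : F) * y v = x (-((u : F) * u) * v) * w (u : F) := fun u v => by
    show NN P i (u : F) * P.X _ v = P.X _ _ * NN P i (u : F)
    rw [← (NN_moves_simple hd hi u v).2]; group
  -- `x (-b) y 1 = w (-b) x b y (-a/b)`
  have s1 : x (-(b : F)) * y 1 = w (-(b : F)) * x b * y (-(a : F) / b) := by
    rw [wdef]
    have : y (-(a : F) / b) = y (-(b : F)⁻¹) * y 1 := by
      rw [ya]; congr 1; field_simp; linear_combination -hab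
    rw [this, show y (-(b : F)⁻¹) = (y (b : F)⁻¹)⁻¹ from (P.inv hn _).symm,
      show x (b : F) = (x (-(b : F)))⁻¹ by simp only [x, P.inv hp, neg_neg]]
    simp only [inv_neg, neg_neg]
    group
  have s2 : x a * y (-(a : F)⁻¹) * w (-(b : F)) =
      w (-(b : F)) * y (-(a : F) / ((b : F) * b)) * x ((b : F) * b / a) := by
    set u : Fˣ := -b
    have hu : (u : F) = -(b : F) := Units.val_neg b
    rw [← hu]
    rw [mul_assoc, show y (-(a : F)⁻¹) = y (-((b : F) * b / a) / ((u : F) * u)) by
      congr 1; rw [hu]; field_simp, ← mvx, ← mul_assoc,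
      show x (a : F) = x (-((u : F) * u) * (-(a : F) / ((b : F) * b))) by
        congr 1; rw [hu]; field_simp, ← mvy]
  have s3 : x ((b : F) / a) * y (-(a : F) / b) = w ((b : F) / a) * x (-((b : F) / a)) := by
    rw [wdef, mul_assoc (x _ * y _), xa, add_neg_cancel, show x (0 : F) = 1 from P.zero hp, mul_one,
      inv_div, neg_div]
  have s4 : y (-(a : F) / ((b : F) * b)) * w ((b : F) / a) = w ((b : F) / a) * x (a : F)⁻¹ := by
    set v : Fˣ := b / a
    have hv : (v : F) = (b : F) / a := Units.val_div_eq_div_val b a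
    rw [← hv, mvx]
    congr 2
    rw [hv]
    field_simp
  have s5 : w (-(b : F)) * w ((b : F) / a) * w b = w ((a : F) * b) := by
    rw [winv]
    set v : Fˣ := a * b
    have hv : (v : F) = (a : F) * b := Units.val_mul a b
    have c1 : (w (b : F))⁻¹ * x ((b : F) / a) * w b = y (-(v : F)⁻¹) := by
      set u : Fˣ := -b
      have hu : (u : F) = -(b : F) := Units.val_neg b
      rw [← winv, ← hu, mvx, hu]
      simp only [winv, inv_mul_cancel_right, hv]
      congr 1
      field_simp
    have c2 : (w (b : F))⁻¹ * y (-((b : F) / a)⁻¹) * w b = x (v : F) := by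
      set u : Fˣ := -b
      have hu : (u : F) = -(b : F) := Units.val_neg b
      rw [← winv, ← hu, mvy, hu]
      simp only [winv, inv_mul_cancel_right, hv]
      congr 1
      field_simp
    have c3 : y (-(v : F)⁻¹) * x (v : F) * y (-(v : F)⁻¹) = w (v : F) := by
      have e1 := mvx v v
      have e2 := mvy v (-(v : F)⁻¹)
      rw [show -(v : F) / ((v : F) * v) = -(v : F)⁻¹ by field_simp] at e1
      rw [show -((v : F) * v) * -(v : F)⁻¹ = (v : F) by field_simp] at e2
      have : w (v : F) * w (v : F) = (y (-(v : F)⁻¹) * x (v : F) * y (-(v : F)⁻¹)) * w (v : F) :=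
        calc w (v : F) * w (v : F) = w (v : F) * (x v * y (-(v : F)⁻¹) * x v) := by rw [← wdef]
          _ = y (-(v : F)⁻¹) * x v * (w (v : F) * x v) := by
            rw [← mul_assoc, ← mul_assoc, e1, mul_assoc (y _), e2, mul_assoc, mul_assoc, mul_assoc, e1]
          _ = _ := by rw [e1, ← mul_assoc]
      exact (mul_right_cancel this).symm
    rw [← hv, ← c3]
    calc (w (b : F))⁻¹ * w ((b : F) / a) * w b
        = ((w (b : F))⁻¹ * x ((b : F) / a) * w b) * ((w (b : F))⁻¹ * y (-((b : F) / a)⁻¹) * w b) *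
            ((w (b : F))⁻¹ * x ((b : F) / a) * w b) := by rw [wdef ((b : F) / a)]; group
      _ = _ := by rw [c1, c2]
  suffices w (a : F) * w (-1) * w (b : F) = w ((a : F) * b) by
    show w (a : F) * w (-1) * (w (b : F) * w (-1)) = w ((a : F) * b) * w (-1)
    rw [← mul_assoc, this]
  have e0 : w (-1) = x (-1) * y 1 * x (-1) := by rw [wdef]; simp [inv_neg]
  calc w (a : F) * w (-1) * w (b : F)
      = x a * y (-(a : F)⁻¹) * (x a * x (-1)) * y 1 * (x (-1) * x b) * y (-(b : F)⁻¹) * x b := by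
        rw [e0, wdef a, wdef b]; simp only [mul_assoc]
    _ = x a * y (-(a : F)⁻¹) * x (-(b : F)) * y 1 * x (-(a : F)) * y (-(b : F)⁻¹) * x b := by
        rw [xa, xa, show (a : F) + -1 = -b by linear_combination hab,
          show -1 + (b : F) = -a by linear_combination hab]
    _ = (x a * y (-(a : F)⁻¹) * w (-(b : F))) * x b * y (-(a : F) / b) * x (-(a : F)) *
          y (-(b : F)⁻¹) * x b := by
        rw [mul_assoc (x a * y _) (x (-(b : F))), s1]; simp only [mul_assoc]
    _ = w (-(b : F)) * y (-(a : F) / ((b : F) * b)) * (x ((b : F) * b / a) * x b) *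
          y (-(a : F) / b) * x (-(a : F)) * y (-(b : F)⁻¹) * x b := by
        rw [s2]; simp only [mul_assoc]
    _ = w (-(b : F)) * y (-(a : F) / ((b : F) * b)) * (x ((b : F) / a) *
          y (-(a : F) / b)) * x (-(a : F)) * y (-(b : F)⁻¹) * x b := by
        rw [xa, show (b : F) * b / a + b = (b : F) / a by field_simp; linear_combination hab]
        simp only [mul_assoc]
    _ = w (-(b : F)) * (y (-(a : F) / ((b : F) * b)) * w ((b : F) / a)) *
          (x (-((b : F) / a)) * x (-(a : F))) * y (-(b : F)⁻¹) * x b := by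
        rw [s3]; simp only [mul_assoc]
    _ = w (-(b : F)) * w ((b : F) / a) * (x (a : F)⁻¹ * (x (-((b : F) / a)) * x (-(a : F)))) *
          y (-(b : F)⁻¹) * x b := by
        rw [s4]; simp only [mul_assoc]
    _ = w (-(b : F)) * w ((b : F) / a) * w b := by
        rw [xa, xa, show (a : F)⁻¹ + (-((b : F) / a) + -(a : F)) = b by
          field_simp; linear_combination -((a : F) + 1) * hab, wdef b]
        simp only [mul_assoc]
    _ = _ := s5

/-- the lifted torus elements of a fundamental root multiply as the scalars -/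
theorem HH_mul [Finite F] (hd : Data h P) {i : ℕ} (hi : i < D.rank) (s t : Fˣ) :
    HH P i ((s * t : Fˣ) : F) = HH P i (s : F) * HH P i (t : F) := by
  classical
  have g := h.good
  set H : Fˣ → E := fun t => HH P i (t : F) with hH
  have hcen : ∀ s t : Fˣ, H s * H t * (H (s * t))⁻¹ ∈ Subgroup.center E := by
    intro s t
    apply ker_le_center hd
    rw [MonoidHom.mem_ker, map_mul, map_mul, map_inv, mul_inv_eq_one]
    simp only [H, π_HH P hi]
    rw [hG_eq_tor g (g.simple_lt i hi), hG_eq_tor g (g.simple_lt i hi),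
      hG_eq_tor g (g.simple_lt i hi), ← map_mul]
    congr 1
    funext j
    simp [mul_zpow]
  let φ : Fˣ →* E ⧸ Subgroup.center E := MonoidHom.mk' (fun t => (H t : E ⧸ Subgroup.center E))
    fun a b => ((QuotientGroup.eq_iff_div_mem).2 (by rw [div_eq_mul_inv]; exact hcen a b)).symm
  obtain ⟨γ, hγ⟩ := IsCyclic.exists_generator (α := Fˣ)
  have hcomm : ∀ s t : Fˣ, Commute (H s) (H t) := by
    have key : ∀ s : Fˣ, ∃ n : ℤ, ∃ z ∈ Subgroup.center E, H s = z * H γ ^ n := by
      intro s
      obtain ⟨n, rfl⟩ := hγ s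
      refine ⟨n, H (γ ^ n) * (H γ ^ n)⁻¹, ?_, by group⟩
      rw [← QuotientGroup.eq_one_iff, QuotientGroup.mk_mul, QuotientGroup.mk_inv,
        QuotientGroup.mk_zpow]
      show φ (γ ^ n) * (φ γ ^ n)⁻¹ = 1
      rw [map_zpow, mul_inv_cancel]
    intro s t
    obtain ⟨n, z, hz, e⟩ := key s
    obtain ⟨m, z', hz', e'⟩ := key t
    have c : ∀ z ∈ Subgroup.center E, ∀ y : E, Commute z y := fun z hz y =>
      (Subgroup.mem_center_iff.1 hz y).symm
    rw [e, e']
    exact ((c z hz _).mul_left (((c z' hz' _).symm).mul_right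
      ((Commute.refl (H γ)).zpow_zpow n m)))
  -- conjugation of `n_i` gives the rule for squares
  have hsq : ∀ s t : Fˣ, H (t * t * s) = H s * H (t * t) := by
    intro s t
    have e : ∀ u : Fˣ, H t * NN P i (u : F) * (H t)⁻¹ = NN P i ((t * t * u : Fˣ) : F) := fun u => by
      rw [HH_conj_NN hd hi t]; simp
    have e1 := e s
    rw [NN_eq P hi (s : F), NN_eq P hi ((t * t * s : Fˣ) : F)] at e1
    have e2 := e 1
    rw [Units.val_one, mul_one, NN_eq P hi (((t * t : Fˣ) : F))] at e2
    change H t * (H s * NN P i 1) * (H t)⁻¹ = H (t * t * s) * NN P i 1 at e1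
    change H t * NN P i 1 * (H t)⁻¹ = H (t * t) * NN P i 1 at e2
    have e3 : H t * (H s * NN P i 1) * (H t)⁻¹ = H s * H (t * t) * NN P i 1 := by
      rw [mul_assoc (H s), ← e2, ← mul_assoc (H t), (hcomm t s).eq]; group
    exact (mul_right_cancel (e1.symm.trans e3))
  have hone : H 1 = 1 := by simp only [H, Units.val_one]; exact HH_one (h := h) i hi
  have hsq' : ∀ s t : Fˣ, H (s * (t * t)) = H s * H (t * t) := fun s t => by
    rw [mul_comm, hsq]
  show H (s * t) = H s * H t
  have hrep : ∀ s : Fˣ, ∃ e : Bool, ∃ u : Fˣ, s = (bif e then γ else 1) * (u * u) := by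
    intro s
    obtain ⟨n, rfl⟩ := hγ s
    rcases Int.even_or_odd n with ⟨m, rfl⟩ | ⟨m, rfl⟩
    · exact ⟨false, γ ^ m, by simp [_root_.zpow_add]⟩
    · exact ⟨true, γ ^ m, by simp only [cond_true, two_mul, _root_.zpow_add, zpow_one]; ac_rfl⟩
  have hgg : H (γ * γ) = H γ * H γ := by
    by_cases hsq2 : IsSquare (γ : F)
    · obtain ⟨r, hr⟩ := hsq2
      obtain ⟨r', rfl⟩ : ∃ r' : Fˣ, (r' : F) = r :=
        ⟨Units.mk0 r (fun e => by simp [e] at hr), rfl⟩
      have hg2 : γ = r' * r' := Units.ext (by simpa using hr)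
      conv_lhs => rw [hg2]
      conv_rhs => rw [hg2]
      exact hsq' _ _
    · have hF : ringChar F ≠ 2 := fun e => hsq2 (FiniteField.isSquare_of_char_two e _)
      haveI := Fintype.ofFinite F
      obtain ⟨p, q, hpq⟩ : ∃ p q : F, p ^ 2 + q ^ 2 = (γ : F)⁻¹ := by
        let f : Polynomial F := Polynomial.X ^ 2
        let f' : Polynomial F := Polynomial.X ^ 2 - Polynomial.C (γ : F)⁻¹
        obtain ⟨p, q, hpq⟩ : ∃ p q, f.eval p + f'.eval q = 0 :=
          FiniteField.exists_root_sum_quadratic (Polynomial.degree_X_pow 2)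
            (Polynomial.degree_X_pow_sub_C (by decide) _) (FiniteField.odd_card_of_char_ne_two hF)
        refine ⟨p, q, ?_⟩
        rw [← sub_eq_zero]
        simpa only [f, f', Polynomial.eval_C, Polynomial.eval_X, Polynomial.eval_pow,
          Polynomial.eval_sub, ← add_sub_assoc] using hpq
      have hne : ∀ p q : F, p ^ 2 + q ^ 2 = (γ : F)⁻¹ → p ≠ 0 := by
        intro p q e hp
        apply hsq2
        have hq : q ^ 2 = (γ : F)⁻¹ := by rw [← e, hp]; ring
        exact ⟨q⁻¹, by rw [← mul_inv, ← pow_two, hq, inv_inv]⟩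
      obtain ⟨a, ha⟩ : ∃ a : Fˣ, (a : F) = p := ⟨Units.mk0 p (hne p q hpq), rfl⟩
      obtain ⟨b, hb⟩ : ∃ b : Fˣ, (b : F) = q :=
        ⟨Units.mk0 q (hne q p (by rw [add_comm]; exact hpq)), rfl⟩
      have h1 := HH_mul_one_sub hd hi (γ * (a * a)) (γ * (b * b)) (by
        push_cast
        rw [ha, hb, ← mul_add, ← pow_two, ← pow_two, hpq, mul_inv_cancel₀ γ.ne_zero])
      rw [← Units.val_mul] at h1
      change H _ * H _ = H _ at h1
      rw [hsq', hsq', show γ * (a * a) * (γ * (b * b)) = γ * γ * (a * b * (a * b)) by ac_rfl, hsq',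
        show a * b * (a * b) = a * a * (b * b) by ac_rfl, hsq' (a * a) b,
        (hcomm (a * a) γ).mul_mul_mul_comm] at h1
      exact (mul_right_cancel h1).symm
  obtain ⟨e, u, rfl⟩ := hrep s
  obtain ⟨e', v, rfl⟩ := hrep t
  rw [show ∀ p q : Fˣ, p * (u * u) * (q * (v * v)) = p * q * (u * v * (u * v)) from fun p q => by
    ac_rfl, hsq', hsq', hsq', show u * v * (u * v) = u * u * (v * v) by ac_rfl, hsq' (u * u) v,
    (hcomm (u * u) _).mul_mul_mul_comm]
  cases e <;> cases e' <;> simp [hone, hgg]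

end rankOne

/-- the lift of `n_r(c)` for any root -/
noncomputable def NR {g : Good D A} (P : Pre g F E) (r : ℕ) (c : F) : E :=
  P.X r c * P.X (A.neg r) (-c⁻¹) * P.X r c

/-- the lift of `h_r(c)` for any root -/
noncomputable def HR {g : Good D A} (P : Pre g F E) (r : ℕ) (c : F) : E := NR P r c * NR P r (-1)

/-- for every root the lifted torus elements multiply as the scalars -/
theorem HR_mul [Finite F] {h : Std D A} {P : Pre h.good F E} (hd : Data h P) :
    ∀ r < D.nroots, ∀ s t : Fˣ, HR P r (s : F) * HR P r (t : F) = HR P r ((s * t : Fˣ) : F) := by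
  have g := h.good
  refine root_induction g (fun j hj _ s t => ?_) ?_
  · exact (HH_mul hd hj s t).symm
  intro i hi r hr ih s t
  set r' := A.refl i r
  have hr' : r' < D.nroots := g.refl_lt i hi r hr
  set k : F := (A.eta i r : F)
  have hk2 : k * k = 1 := eta_sq g hi hr
  have hkn : (A.eta i (A.neg r) : F) = k := by
    rcases g.eta_sign i hi r hr with e | e <;>
      · have := g.eta_neg i hi r hr
        rw [e] at this
        simp only [k, e]
        congr 1
        omega
  have hinv : ∀ c : F, NR P r' (-c) = (NR P r' c)⁻¹ := fun c => by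
    simp only [NR, inv_neg, neg_neg, _root_.mul_inv_rev, P.inv hr', P.inv (g.neg_lt _ hr'), mul_assoc]
  have hkinv : k⁻¹ = k := inv_eq_of_mul_eq_one_right hk2
  have hN : ∀ c : F, NN P i 1 * NR P r c * (NN P i 1)⁻¹ = NR P r' (k * c) := by
    intro c
    have hm := moves_NN h hd.st hd.split hi
    rw [NR, show ∀ a b d y : E, y * (a * b * d) * y⁻¹ = (y * a * y⁻¹) * (y * b * y⁻¹) * (y * d * y⁻¹)
      from fun a b d y => by group, hm r hr, hm _ (g.neg_lt r hr), g.refl_neg i hi r hr, NR]
    simp only [hkn, mul_inv, hkinv, mul_neg, k, r']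
  set φ : Fˣ → E := fun u => NR P r' (k * (u : F)) * NR P r' (-k) with hφ
  have hφm : ∀ s t : Fˣ, φ s * φ t = φ (s * t) := by
    have e : ∀ u : Fˣ, φ u = NN P i 1 * HR P r (u : F) * (NN P i 1)⁻¹ := fun u => by
      rw [HR, ← conj_mul_distrib (NN P i 1), hN, hN, mul_neg_one]
    intro s t
    rw [e, e, e, ← ih s t]
    group
  have hH1 : HR P r' (1 : F) = 1 := by rw [HR, hinv, mul_inv_cancel]
  have hk : k = 1 ∨ k = -1 := mul_self_eq_one_iff.1 hk2
  rcases hk with hk | hk
  · have e : ∀ u : Fˣ, HR P r' (u : F) = φ u := fun u => by simp [φ, hk, HR]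
    rw [e, e, e, hφm]
  · have e : ∀ u : Fˣ, HR P r' (u : F) = φ (-u) * (φ (-1))⁻¹ := fun u => by
      simp only [φ, hk, Units.val_neg, Units.val_one, mul_neg, neg_mul, one_mul, neg_neg, HR,
        _root_.mul_inv_rev, ← hinv]
      group
      rw [hinv 1]; group
    have h2 : φ (-1) * φ (-1) = φ 1 := by rw [hφm]; simp
    have h3 : φ 1 = 1 := mul_eq_left.1 (by rw [hφm, one_mul] : φ 1 * φ 1 = φ 1)
    have h4 : (φ (-1))⁻¹ = φ (-1) := inv_eq_of_mul_eq_one_right (h2.trans h3)
    rw [e, e, e, h4, hφm, hφm, hφm, hφm]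
    congr 1
    simp
where
  conj_mul_distrib {G : Type _} [Group G] (y : G) {a b : G} :
      (y * a * y⁻¹) * (y * b * y⁻¹) = y * (a * b) * y⁻¹ := by group

/-- the relators (R3) hold over a finite field -/
theorem mk_relC [Finite F] (h : Std D A) (hC : splitChk D A = true)
    {y : FreeGroup (Fin D.nroots × F)} (hy : y ∈ D.steinbergRels F) :
    PresentedGroup.mk (D.steinbergRelsAB F) y = 1 := by
  rcases hy with hy | ⟨r, t₁, t₂, hr, h1, h2, rfl⟩
  · exact PresentedGroup.one_of_mem hy
  have hm := fun t => mk_stWord (D := D) h (le_refl _) (relsAB_subset F) (D.hWord r t)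
  set P := presPre h (le_refl (D.steinbergRelsAB F)) (relsAB_subset F)
  have hH : ∀ t, PresentedGroup.mk (D.steinbergRelsAB F) (D.stH r t) = HR P r t := fun t => by
    rw [ChevalleyDatum.stH, hm]
    simp [ChevalleyDatum.hWord, ChevalleyDatum.nWord, HR, NR, h.good.neg_eq _ hr, mul_assoc]
  have key := HR_mul (presData h hC (le_refl _) (relsAB_subset F)) r hr (Units.mk0 t₁ h1) (Units.mk0 t₂ h2)
  simp only [Units.val_mk0, Units.val_mul] at key
  rw [map_mul, map_mul, map_inv, hH, hH, hH, mul_inv_eq_one]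
  exact key

end CfsgLib.Steinberg
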