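import Cfsg.Agent.Lib.Steinberg.Center
import Cfsg.Agent.Lib.Steinberg.R3
import Cfsg.Agent.Lib.Chev.OrderTypes

/-!
The root systems of types E6 and E7 inside the one of type E8, with the same structure constants.
-/

set_option autoImplicit false
set_option maxRecDepth 100000

namespace CfsgLib.Steinberg

open Cfsg.Lie Matrix CfsgLib.Chev

/-- roots of E6 among those of E8 -/
noncomputable def e68 : List ℕ := [35,45,51,54,55,61,64,65,68,69,70,73,74,75,76,77,83,86,87,90,91,92,95,96,97,98,101,102,103,104,107,108,109,112,113,116,123,126,127,130,131,132,135,136,137,138,141,142,143,144,147,148,149,152,153,156,162,163,164,165,166,169,170,171,174,175,178,184,185,188,194,204]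

/-- roots of E7 among those of E8 -/
noncomputable def e78 : List ℕ := [13,20,25,29,32,34,35,39,42,44,45,48,50,51,53,54,55,58,60,61,63,64,65,67,68,69,70,72,73,74,75,76,77,80,82,83,85,86,87,89,90,91,92,94,95,96,97,98,100,101,102,103,104,106,107,108,109,111,112,113,115,116,118,121,123,124,126,127,128,130,131,132,133,135,136,137,138,139,141,142,143,144,145,147,148,149,150,152,153,154,156,157,159,162,163,164,165,166,167,169,170,171,172,174,175,176,178,179,181,184,185,186,188,189,191,194,195,197,200,204,205,207,210,214,219,226]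

/-- a root map preserving the commutator terms -/
noncomputable def embChk (D : ChevalleyDatum) (A : Aux) (D' : ChevalleyDatum) (A' : Aux) (e : List ℕ) : Bool :=
  decide (D.rank ≤ D'.rank) &&
  ((List.range D.rank).all fun i => decide (e.getD (D.simple i) 0 = D'.simple i)) &&
  (List.range D.nroots).all fun r =>
    decide (e.getD r 0 < D'.nroots) && decide (e.getD (A.neg r) 0 = A'.neg (e.getD r 0)) &&
      (List.range D.nroots).all fun s =>
        decide (s = r ∨ s = A.neg r ∨ (e.getD s 0 ≠ e.getD r 0 ∧ e.getD s 0 ≠ A'.neg (e.getD r 0) ∧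
          A'.terms (e.getD r 0) (e.getD s 0) = (A.terms r s).map fun q => (e.getD q.1 0, q.2)))

theorem emb68 : embChk chevE6 auxE6 chevE8 auxE8 e68 = true := by decide +kernel

theorem emb78 : embChk chevE7 auxE7 chevE8 auxE8 e78 = true := by decide +kernel

variable {D D' : ChevalleyDatum} {A A' : Aux} {F : Type*} [Field F]

/-- the lifted torus is faithful when the group maps into one with a faithful torus -/
theorem torE_injective [Finite F] (h : Std D A) (h' : Std D' A') {e : List ℕ}
    (he : embChk D A D' A' e = true)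
    (hinj : Function.Injective (tor D' A' : (Fin D'.rank → Fˣ) →* GL D'.Idx F))
    (hC : splitChk D A = true)
    (hm : MulHH (presPre h (le_refl (D.steinbergRelsAB F)) (relsAB_subset F))) :
    Function.Injective (torE (presData h hC (le_refl (D.steinbergRelsAB F)) (relsAB_subset F)) hm) := by
  simp only [embChk, List.all_eq_true, List.mem_range, Bool.and_eq_true, decide_eq_true_eq] at he
  obtain ⟨⟨hrk, hsimp⟩, hroots⟩ := he
  set ee := fun r => e.getD r 0
  let f : Fin D.nroots × F → GL D'.Idx F := fun p => xG h'.good (ee p.1) p.2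
  have hf : ∀ (r : ℕ) (t : F), r < D.nroots → FreeGroup.lift f (D.stX r t) = xG h'.good (ee r) t := by
    intro r t hr
    simp [ChevalleyDatum.stX, hr, f]
  have hW : ∀ w : List (ℕ × F), (∀ p ∈ w, p.1 < D.nroots) → FreeGroup.lift f (D.stWord w) =
      (w.map fun p => xG h'.good (ee p.1) p.2).prod := by
    intro w hw
    rw [ChevalleyDatum.stWord, map_list_prod, List.map_map]
    exact congrArg List.prod (List.map_congr_left fun p hp => hf _ _ (hw p hp))
  have hrel : ∀ y ∈ D.steinbergRelsAB F, FreeGroup.lift f y = 1 := by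
    rintro y (⟨r, t₁, t₂, hr, rfl⟩ | ⟨r, s, t, u, hr, hs, hsr, hsn, rfl⟩)
    · simp only [map_mul, map_inv, hf _ _ hr]
      rw [xG_add, mul_inv_cancel]
    · rw [h.good.neg_eq r hr] at hsn
      obtain ⟨⟨hlt, -⟩, hall⟩ := hroots r hr
      rcases hall s hs with e1 | e1 | ⟨n1, n2, ht⟩
      · exact absurd e1 hsr
      · exact absurd e1 hsn
      rw [map_mul, map_mul, map_mul, map_mul, map_inv, map_inv, map_inv, hf _ _ hr, hf _ _ hs,
        hW _ (fun p hp => by
          obtain ⟨q, hq, rfl⟩ := List.mem_map.1 hp
          exact (terms_mem h.good hr hs (commTerms_eq h.good hr hs ▸ hq)).1), mul_inv_eq_one]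
      have hc : xG h'.good (ee s) u * xG h'.good (ee r) t = xG h'.good (ee r) t * xG h'.good (ee s) u *
          ((D.commWord F r s t u).map fun p => xG h'.good (ee p.1) p.2).prod := by
        have hw' : (tword A' (ee r) (ee s) t u) = (D.commWord F r s t u).map fun p => (ee p.1, p.2) := by
          rw [tword, ChevalleyDatum.commWord, commTerms_eq h.good hr hs, ht, List.map_map, List.map_map]
          rfl
        refine Units.ext ?_
        simp only [Units.val_mul, xG_val]
        rw [commF_all h' hlt (hroots s hs).1.1 n1 n2 t u, hw', ← prod_xG_val h'.good, List.map_map]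
        rfl
      rw [mul_assoc, hc]; group
  have hi : ∀ i : Fin D.rank, i.val < D'.rank := fun i => lt_of_lt_of_le i.isLt hrk
  let ψ := PresentedGroup.toGroup hrel
  have hψ : ∀ (r : ℕ) (t : F), r < D.nroots →
      ψ ((presPre h (le_refl (D.steinbergRelsAB F)) (relsAB_subset F)).X r t) = xG h'.good (ee r) t :=
    fun r t hr => hf r t hr
  let ι : (Fin D.rank → Fˣ) →* (Fin D'.rank → Fˣ) :=
    MonoidHom.mk' (fun c j => if hj : j.val < D.rank then c ⟨j, hj⟩ else 1) fun a b => by
      funext j
      by_cases hj : j.val < D.rank <;> simp [hj]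
  have hcomp : ψ.comp (torE (presData h hC (le_refl _) (relsAB_subset F)) hm) = (tor D' A').comp ι := by
    refine MonoidHom.pi_ext fun i x => ?_
    have hp := h.good.simple_lt i i.isLt
    rw [MonoidHom.comp_apply, MonoidHom.comp_apply, torE_single]
    have hs : ee (D.simple i) = D'.simple i := hsimp i i.isLt
    have hn : ee (A.neg (D.simple i)) = A'.neg (D'.simple i) := by rw [← hs]; exact (hroots _ hp).1.2
    have e1 : ι (Pi.mulSingle i x) = Pi.mulSingle ⟨i, hi i⟩ x := by
      funext j
      show (if hj : j.val < D.rank then _ else _) = _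
      by_cases e : j = ⟨i, hi i⟩
      · subst e; simp [i.isLt]
      · rw [Pi.mulSingle_eq_of_ne e]
        split_ifs with hj
        · rw [Pi.mulSingle_eq_of_ne]
          intro e'
          exact e (Fin.ext (show j.val = i.val from (congrArg Fin.val e' :)))
        · rfl
    rw [e1, ← hG_simple h'.good]
    simp only [HH, NN, map_mul, hψ _ _ hp, hψ _ _ (h.good.neg_lt _ hp), hs, hn, hG, nG,
      h'.good.neg_eq _ (h'.good.simple_lt i (hi i))]
  have hιinj : Function.Injective ι := fun a b eab => by
    funext i
    have h2 := congrFun eab ⟨i, hi i⟩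
    change (if hj : i.val < D.rank then a ⟨i, hj⟩ else 1) =
      (if hj : i.val < D.rank then b ⟨i, hj⟩ else 1) at h2
    rwa [dif_pos i.isLt, dif_pos i.isLt] at h2
  intro a b eab
  refine hιinj (hinj ?_)
  have h2 := congrArg ψ eab
  rwa [← MonoidHom.comp_apply, ← MonoidHom.comp_apply, hcomp] at h2

/-- the order of the centre -/
theorem card_center [Fintype F] (h : Std D A) (hC : splitChk D A = true) (h' : Std D' A') {e : List ℕ}
    (he : embChk D A D' A' e = true)
    (hinj : Function.Injective (tor D' A' : (Fin D'.rank → Fˣ) →* GL D'.Idx F))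
    {U Ui V Vi : Matrix (Fin D.rank) (Fin D.rank) ℤ} {d : Fin D.rank → ℕ}
    (hc : smithCheck D A U Ui V Vi d = true) :
    Nat.card (Subgroup.center (D.SteinbergCover F)) = ∏ i, Nat.gcd (d i) (Fintype.card F - 1) := by
  classical
  have hd := presData h hC (le_refl (D.steinbergRelsAB F)) (relsAB_subset F)
  have hm : MulHH (presPre h (le_refl (D.steinbergRelsAB F)) (relsAB_subset F)) :=
    fun i hi s t => HH_mul hd hi s t
  rw [center_eq_map hd hm, Subgroup.card_map_of_injective (torE_injective h h' he hinj hC hm)]
  have h1 := card_diagonal (F := F) h.good hc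
  have h2 := Subgroup.card_mul_index (tor D A : (Fin D.rank → Fˣ) →* GL D.Idx F).ker
  rw [Subgroup.index_ker, ← diagonalSubgroup_eq h.good, Nat.card_pi, Finset.prod_const, Finset.card_univ,
    Fintype.card_fin, Nat.card_eq_fintype_card (α := Fˣ), Fintype.card_units, ← h1] at h2
  exact Nat.eq_of_mul_eq_mul_right Nat.card_pos h2

end CfsgLib.Steinberg
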