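import Cfsg.Agent.Lib.Steinberg.Conj
import Cfsg.Agent.Lib.Chev.Types

/-!
Checks on the tables of the seven types used for Steinberg's presentation.
-/

set_option autoImplicit false

namespace CfsgLib.Steinberg

open Cfsg.Lie CfsgLib.Chev

theorem splitG2 : splitChk chevG2 auxG2 = true := by decide +kernel
theorem splitB2 : splitChk chevB2 auxB2 = true := by decide +kernel
theorem splitD4 : splitChk chevD4 auxD4 = true := by decide +kernel
theorem splitF4 : splitChk chevF4 auxF4 = true := by decide +kernel
theorem splitE6 : splitChk chevE6 auxE6 = true := by decide +kernel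
theorem splitE7 : splitChk chevE7 auxE7 = true := by decide +kernel
theorem splitE8 : splitChk chevE8 auxE8 = true := by decide +kernel

theorem data_of_mem {D : ChevalleyDatum}
    (hD : D ∈ [chevG2, chevB2, chevD4, chevF4, chevE6, chevE7, chevE8]) :
    ∃ A, Std D A ∧ splitChk D A = true := by
  simp only [List.mem_cons, List.not_mem_nil, or_false] at hD
  rcases hD with rfl | rfl | rfl | rfl | rfl | rfl | rfl
  exacts [⟨_, stdG2, splitG2⟩, ⟨_, stdB2, splitB2⟩, ⟨_, stdD4, splitD4⟩, ⟨_, stdF4, splitF4⟩,
    ⟨_, stdE6, splitE6⟩, ⟨_, stdE7, splitE7⟩, ⟨_, stdE8, splitE8⟩]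

end CfsgLib.Steinberg
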