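import Cfsg.Agent.Lib.Steinberg.Kernel
import Cfsg.Agent.Lib.Steinberg.Data
import Cfsg.Prelude.Def_SteinbergCover

/-!
The presented groups of `Def_Steinberg` and `Def_SteinbergCover` as groups with lifted root elements.
-/

set_option autoImplicit false

namespace CfsgLib.Steinberg

open Cfsg.Lie Matrix CfsgLib.Chev

variable {D : ChevalleyDatum} {A : Aux} {F : Type*} [Field F]

/-- the values of the generators -/
noncomputable def stF (g : Good D A) (p : Fin D.nroots × F) : GL D.Idx F := xG g p.1 p.2

theorem lift_stX (g : Good D A) (r : ℕ) (t : F) : FreeGroup.lift (stF g) (D.stX r t) = xG g r t := by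
  unfold ChevalleyDatum.stX
  split_ifs with h
  · simp [stF]
  · simp [xG, h]

theorem lift_stWord (g : Good D A) (w : List (ℕ × F)) :
    FreeGroup.lift (stF g) (D.stWord w) = (w.map fun p => xG g p.1 p.2).prod := by
  simp only [ChevalleyDatum.stWord, map_list_prod, List.map_map, Function.comp_def, lift_stX]

theorem prod_xG_val (g : Good D A) (w : List (ℕ × F)) :
    ((w.map fun p => xG g p.1 p.2).prod : GL D.Idx F).val = D.wordMat F w := by
  induction w with
  | nil => simp [wordMat_nil]
  | cons p w ih => rw [List.map_cons, List.prod_cons, Units.val_mul, ih, wordMat_cons, xG_val]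

theorem lift_stH (g : Good D A) (r : ℕ) (t : F) : FreeGroup.lift (stF g) (D.stH r t) = hG g r t := by
  refine Units.ext ?_
  rw [ChevalleyDatum.stH, lift_stWord, prod_xG_val, hG_val]
  rfl

theorem rels_hom (h : Std D A) : ∀ y ∈ D.steinbergRels F, FreeGroup.lift (stF h.good) y = 1 := by
  have g := h.good
  rintro y ((⟨r, t₁, t₂, hr, rfl⟩ | ⟨r, s, t, u, hr, hs, hsr, hsn, rfl⟩) | ⟨r, t₁, t₂, hr, h1, h2, rfl⟩)
  · simp [lift_stX, xG_add]
  · rw [map_mul, map_mul, map_mul, map_mul, map_inv, map_inv, map_inv, lift_stX, lift_stX, lift_stWord,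
      mul_inv_eq_one]
    have hc : xG h.good s u * xG h.good r t =
        xG h.good r t * xG h.good s u * ((D.commWord F r s t u).map fun p => xG h.good p.1 p.2).prod := by
      refine Units.ext ?_
      simp only [Units.val_mul, xG_val, prod_xG_val]
      exact comm_formula h hr hs hsr hsn t u
    rw [mul_assoc, hc]; group
  · rw [map_mul, map_mul, map_inv, lift_stH, lift_stH, lift_stH, mul_inv_eq_one]
    obtain ⟨u₁, rfl⟩ : ∃ u : Fˣ, (u : F) = t₁ := ⟨Units.mk0 t₁ h1, rfl⟩
    obtain ⟨u₂, rfl⟩ : ∃ u : Fˣ, (u : F) = t₂ := ⟨Units.mk0 t₂ h2, rfl⟩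
    rw [hG_eq_tor g hr, hG_eq_tor g hr, ← Units.val_mul, hG_eq_tor g hr, ← map_mul]
    congr 1
    funext i
    simp [mul_zpow]

theorem relsAB_subset (F : Type*) [Field F] : D.steinbergRelsAB F ⊆ D.steinbergRels F :=
  fun _ h => Or.inl h

variable {rels : Set (FreeGroup (Fin D.nroots × F))}

/-- a presented group with relators valid in the Chevalley group -/
noncomputable def presPre (h : Std D A) (hAB : D.steinbergRelsAB F ⊆ rels)
    (hsub : rels ⊆ D.steinbergRels F) : Pre h.good F (PresentedGroup rels) where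
  π := PresentedGroup.toGroup (f := stF h.good) fun y hy => rels_hom h y (hsub hy)
  X r t := PresentedGroup.mk rels (D.stX r t)
  add r hr t u := by
    rw [← map_mul]
    exact mul_inv_eq_one.1 (by
      rw [← map_inv, ← map_mul]
      exact PresentedGroup.one_of_mem (hAB (Or.inl ⟨r, t, u, hr, rfl⟩)))
  proj r hr t := lift_stX h.good r t

theorem mk_stWord (h : Std D A) (hAB : D.steinbergRelsAB F ⊆ rels) (hsub : rels ⊆ D.steinbergRels F)
    (w : List (ℕ × F)) :
    PresentedGroup.mk rels (D.stWord w) = (w.map fun p => (presPre h hAB hsub).X p.1 p.2).prod := by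
  simp only [ChevalleyDatum.stWord, map_list_prod, List.map_map, Function.comp_def]
  rfl

theorem mk_stH (h : Std D A) (hAB : D.steinbergRelsAB F ⊆ rels) (hsub : rels ⊆ D.steinbergRels F)
    {i : ℕ} (hi : i < D.rank) (t : F) :
    PresentedGroup.mk rels (D.stH (D.simple i) t) = HH (presPre h hAB hsub) i t := by
  rw [ChevalleyDatum.stH, mk_stWord h hAB hsub]
  simp [ChevalleyDatum.hWord, ChevalleyDatum.nWord, HH, NN, h.good.neg_eq _ (h.good.simple_lt i hi),
    mul_assoc]

theorem presData (h : Std D A) (hC : splitChk D A = true) (hAB : D.steinbergRelsAB F ⊆ rels)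
    (hsub : rels ⊆ D.steinbergRels F) : Data h (presPre h hAB hsub) where
  st := by
    intro r hr s hs hsr hsn t u
    have hg := PresentedGroup.one_of_mem (hAB (Or.inr ⟨r, s, t, u, hr, hs, hsr,
      by rwa [h.good.neg_eq r hr], rfl⟩))
    rw [map_mul, map_mul, map_mul, map_mul, map_inv, map_inv, map_inv, mul_inv_eq_one,
      mk_stWord h hAB hsub] at hg
    have hW : (presPre h hAB hsub).W r s t u =
        ((D.commWord F r s t u).map fun p => (presPre h hAB hsub).X p.1 p.2).prod := by
      simp [Pre.W, tword, ChevalleyDatum.commWord, commTerms_eq h.good hr hs]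
    rw [hW, ← hg]
    simp only [presPre]
    group
  split := hC
  gen := by
    rw [eq_top_iff, ← PresentedGroup.closure_range_of rels]
    refine Subgroup.closure_mono ?_
    rintro _ ⟨⟨r, t⟩, rfl⟩
    exact ⟨r, t, r.isLt, by simp [presPre, ChevalleyDatum.stX, PresentedGroup.of]⟩

/-- any homomorphism with the prescribed values is the projection -/
theorem hom_eq (h : Std D A) (hC : splitChk D A = true) (hAB : D.steinbergRelsAB F ⊆ rels)
    (hsub : rels ⊆ D.steinbergRels F) (θ : PresentedGroup rels →* ↥(D.group F))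
    (hθ : ∀ (r : ℕ) (t : F), r < D.nroots →
      ((θ ((presPre h hAB hsub).X r t) : GL D.Idx F) : Matrix D.Idx D.Idx F) = D.x F r t) :
    (D.group F).subtype.comp θ = (presPre h hAB hsub).π := by
  refine MonoidHom.eq_of_eqOn_dense (presData h hC hAB hsub).gen ?_
  rintro _ ⟨r, t, hr, rfl⟩
  exact ((eq_xG_iff h.good).1 (hθ r t hr)).trans ((presPre h hAB hsub).proj r hr t).symm

/-- the projection onto the Chevalley group -/
noncomputable def presProj (h : Std D A) (hC : splitChk D A = true) (hAB : D.steinbergRelsAB F ⊆ rels)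
    (hsub : rels ⊆ D.steinbergRels F) : PresentedGroup rels →* ↥(D.group F) :=
  (presPre h hAB hsub).π.codRestrict (D.group F) fun y => range_π (presData h hC hAB hsub) ▸ ⟨y, rfl⟩

theorem presProj_spec (h : Std D A) (hC : splitChk D A = true) (hAB : D.steinbergRelsAB F ⊆ rels)
    (hsub : rels ⊆ D.steinbergRels F) :
    Function.Surjective (presProj h hC hAB hsub) ∧
      (presProj h hC hAB hsub).ker = Subgroup.center (PresentedGroup rels) ∧
      ∀ (r : ℕ) (t : F), r < D.nroots →
        ((presProj h hC hAB hsub ((presPre h hAB hsub).X r t) : GL D.Idx F) : Matrix D.Idx D.Idx F) =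
          D.x F r t := by
  refine ⟨?_, ?_, fun r t hr => ?_⟩
  · rintro ⟨y, hy⟩
    rw [← range_π (presData h hC hAB hsub)] at hy
    obtain ⟨x, rfl⟩ := hy
    exact ⟨x, rfl⟩
  · rw [center_eq_ker (presData h hC hAB hsub)]
    ext y
    simp [presProj, MonoidHom.mem_ker, Subtype.ext_iff]
  · show (((presPre h hAB hsub).π ((presPre h hAB hsub).X r t) : GL D.Idx F) : Matrix D.Idx D.Idx F) = _
    rw [(presPre h hAB hsub).proj r hr, xG_val]

end CfsgLib.Steinberg
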