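import Cfsg.Agent.Lib.Steinberg.Presented
import Cfsg.Agent.Lib.Chev.Simple

/-!
Groups satisfying Steinberg's relations are perfect.
-/

set_option autoImplicit false

namespace CfsgLib.Steinberg

open Cfsg.Lie Matrix CfsgLib.Chev
open scoped commutatorElement

variable {D : ChevalleyDatum} {A : Aux} {F : Type*} [Field F] {E : Type*} [Group E]

/-- a single term commutator lies in the derived group -/
theorem X_mem_commutator_term {h : Std D A} {P : Pre h.good F E} (hd : Data h P) {p r s : ℕ}
    (hr : r < D.nroots) (hs : s < D.nroots) {c : ℤ} (hsr : s ≠ r) (hsn : s ≠ A.neg r)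
    (e : A.terms r s = [(p, c, 1, 1)]) (hc : (c : F) ≠ 0) (t : F) :
    P.X p t ∈ commutator E := by
  have h1 := hd.st r hr s hs hsr hsn (-1) (t / c)
  simp only [Pre.W, tword, e, List.map_cons, List.map_nil, List.prod_cons, List.prod_nil, mul_one,
    neg_neg, pow_one, mul_div_cancel₀ _ hc] at h1
  have key : P.X p t = ⁅(P.X s (t / c))⁻¹, (P.X r (-1))⁻¹⁆ := by
    rw [commutatorElement_def, inv_inv, inv_inv, mul_assoc, h1]; group
  rw [key, commutator_def]
  exact Subgroup.commutator_mem_commutator (Subgroup.mem_top _) (Subgroup.mem_top _)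

/-- a root moved by the lifted torus lies in the derived group -/
theorem X_mem_commutator_torus {h : Std D A} {P : Pre h.good F E} (hd : Data h P) {r : ℕ}
    (hr : r < D.nroots) (j : Fin D.rank) (a : Fˣ)
    (hc : (chi D A (Pi.mulSingle j a) r : F) ≠ 1) (t : F) : P.X r t ∈ commutator E := by
  set k : F := (chi D A (Pi.mulSingle j a) r : F)
  have hk : k - 1 ≠ 0 := sub_ne_zero.2 hc
  have key : P.X r t = ⁅HH P j (a : F), P.X r (t / (k - 1))⁆ := by
    rw [commutatorElement_def, moves_HH h hd.st hd.split j a r hr, P.inv hr, id_eq, P.add r hr]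
    congr 1
    change t = k * _ + _
    field_simp
    ring
  rw [key, commutator_def]
  exact Subgroup.commutator_mem_commutator (Subgroup.mem_top _) (Subgroup.mem_top _)

theorem perfect_of_simple {h : Std D A} {P : Pre h.good F E} (hd : Data h P)
    (hS : ∀ i < D.rank, ∀ t : F, P.X (D.simple i) t ∈ commutator E) : commutator E = ⊤ := by
  have g := h.good
  rw [eq_top_iff, ← gen_simple hd, Subgroup.closure_le]
  rintro _ (⟨i, t, hi, rfl⟩ | ⟨i, hi, rfl⟩)
  · exact hS i hi t
  have hn : ∀ t : F, P.X (A.neg (D.simple i)) t ∈ commutator E := fun t => by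
    have h1 := moves_NN h hd.st hd.split hi (D.simple i) (g.simple_lt i hi)
      ((A.eta i (D.simple i) : F) * t)
    rw [← mul_assoc, eta_sq g hi (g.simple_lt i hi), one_mul, refl_simple g hi] at h1
    rw [← h1]
    exact (inferInstance : (commutator E).Normal).conj_mem _ (hS i hi _) _
  exact mul_mem (mul_mem (hS i hi 1) (hn _)) (hS i hi 1)

theorem perfect_A {h : Std D A} {P : Pre h.good F E} (hd : Data h P) (hA : perfA D A = true) :
    commutator E = ⊤ := by
  refine perfect_of_simple hd fun i hi t => ?_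
  simp only [perfA, List.all_eq_true, List.any_eq_true, List.mem_range, Bool.and_eq_true,
    decide_eq_true_eq, unitTerm] at hA
  obtain ⟨j, _, ⟨hr, hs⟩, hsr, hsn, e | e⟩ := hA i hi
  · exact X_mem_commutator_term hd hr hs hsr hsn e (by simp) t
  · exact X_mem_commutator_term hd hr hs hsr hsn e (by simp) t

theorem perfect_B {h : Std D A} {P : Pre h.good F E} (hd : Data h P) (hB : perfB D A = true)
    (hF : ∃ a : F, a ≠ 0 ∧ a ≠ 1) : commutator E = ⊤ := by
  obtain ⟨a, ha0, ha1⟩ := hF
  refine perfect_of_simple hd fun i hi t => ?_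
  by_cases ha2 : a ^ 2 = 1
  swap
  · refine X_mem_commutator_torus hd (h.good.simple_lt i hi) ⟨i, hi⟩ (Units.mk0 a ha0) ?_ t
    rw [exists_torus h.good hi hi, h.good.cart_simple i hi, Units.val_zpow_eq_zpow_val]
    simpa [zpow_two, sq] using ha2
  have hm : a = -1 := (mul_self_eq_one_iff.1 (by simpa [sq] using ha2)).resolve_left ha1
  simp only [perfB, List.all_eq_true, List.any_eq_true, List.mem_range, Bool.or_eq_true,
    decide_eq_true_eq, twoTerm] at hB
  rcases hB i hi with ⟨j, hj, hodd⟩ | ⟨r, hr, s, hs, hsr, hsn, he⟩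
  · refine X_mem_commutator_torus hd (h.good.simple_lt i hi) ⟨j, hj⟩ (Units.mk0 a ha0) ?_ t
    rw [exists_torus h.good hi hj, Units.val_zpow_eq_zpow_val, Units.val_mk0, hm,
      Odd.neg_one_zpow (Int.odd_iff.2 (by omega)), ← hm]
    exact ha1
  · have h2 : (2 : F) ≠ 0 := fun e2 => ha1 (by linear_combination hm + (-1 : F) * e2)
    rcases he with e | e
    · exact X_mem_commutator_term hd hr hs hsr hsn e (by simpa using h2) t
    · exact X_mem_commutator_term hd hr hs hsr hsn e (by simpa using h2) t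

/-- perfectness for the seven types -/
theorem perfect_of_mem (hD : D ∈ [chevG2, chevB2, chevD4, chevF4, chevE6, chevE7, chevE8])
    (hK : D ∈ [chevB2, chevG2] → ∃ x : F, x ≠ 0 ∧ x ≠ 1) :
    ∃ (A : Aux) (h : Std D A), splitChk D A = true ∧
      ∀ {E : Type*} [Group E] (P : Pre h.good F E), Data h P → commutator E = ⊤ := by
  simp only [List.mem_cons, List.not_mem_nil, or_false] at hD
  rcases hD with rfl | rfl | rfl | rfl | rfl | rfl | rfl
  · exact ⟨_, stdG2, splitG2, fun {E} _ P hd => perfect_B hd perfB_G2 (hK (by simp))⟩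
  · exact ⟨_, stdB2, splitB2, fun {E} _ P hd => perfect_B hd perfB_B2 (hK (by simp))⟩
  · exact ⟨_, stdD4, splitD4, fun {E} _ P hd => perfect_A hd perfA_D4⟩
  · exact ⟨_, stdF4, splitF4, fun {E} _ P hd => perfect_A hd perfA_F4⟩
  · exact ⟨_, stdE6, splitE6, fun {E} _ P hd => perfect_A hd perfA_E6⟩
  · exact ⟨_, stdE7, splitE7, fun {E} _ P hd => perfect_A hd perfA_E7⟩
  · exact ⟨_, stdE8, splitE8, fun {E} _ P hd => perfect_A hd perfA_E8⟩

end CfsgLib.Steinberg
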