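import Cfsg.Agent.Lib.Chev.Mono

/-!
Homomorphisms from `SL₂` onto the subgroups generated by two opposite root subgroups.
-/

set_option autoImplicit false

namespace CfsgLib.Steinberg

open Cfsg.Lie Matrix CfsgLib.Chev

open scoped MatrixGroups

/-- what is needed to define a homomorphism on `SL₂` -/
structure R1Data (F : Type*) [Field F] (G : Type*) [Group G] where
  x : F → G
  hh : Fˣ →* G
  N : G
  x_add : ∀ t u, x t * x u = x (t + u)
  hh_x : ∀ (a : Fˣ) (t : F), hh a * x t * (hh a)⁻¹ = x ((a : F) * a * t)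
  N_hh : ∀ a : Fˣ, N * hh a * N⁻¹ = hh a⁻¹
  n_eq : ∀ c : Fˣ, hh c * N = x c * (N * x ((c : F))⁻¹ * N⁻¹) * x c
  N_sq : N * N = (hh (-1))⁻¹

variable {F : Type*} [Field F] {G : Type*} [Group G]

namespace R1Data

variable (R : R1Data F G)

/-- the opposite element -/
def y (t : F) : G := R.N * R.x (-t) * R.N⁻¹

theorem x_zero : R.x 0 = 1 := by
  have := R.x_add 0 0
  rwa [add_zero, mul_eq_left] at this

theorem x_inv (t : F) : (R.x t)⁻¹ = R.x (-t) := by
  rw [inv_eq_iff_mul_eq_one, R.x_add, add_neg_cancel, R.x_zero]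

/-- extend the torus to all scalars -/
noncomputable def h0 (t : F) : G := by
  classical exact if ht : t = 0 then 1 else R.hh (Units.mk0 t ht)

theorem h0_eq {t : F} (u : Fˣ) (e : (u : F) = t) : R.h0 t = R.hh u := by
  subst e
  rw [h0, dif_neg u.ne_zero, Units.mk0_val]

/-- the formula for the homomorphism -/
noncomputable def f0 (g : SL(2, F)) : G := by
  classical exact (if g 1 0 = 0 then R.x (g 0 1 * g 0 0) * R.h0 (g 0 0) else
    R.x (g 0 0 / g 1 0) * (R.h0 (-(g 1 0)⁻¹) * R.N) * R.x (g 1 1 / g 1 0))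

theorem f0_of_zero {g : SL(2, F)} (h : g 1 0 = 0) {u : Fˣ} (e : (u : F) = g 0 0) :
    R.f0 g = R.x (g 0 1 * g 0 0) * R.hh u := by rw [f0, if_pos h, R.h0_eq u e]

theorem f0_of_ne {g : SL(2, F)} {u : Fˣ} (h : g 1 0 ≠ 0) (e : (u : F) = -(g 1 0)⁻¹) :
    R.f0 g = R.x (g 0 0 / g 1 0) * (R.hh u * R.N) * R.x (g 1 1 / g 1 0) := by
  rw [f0, if_neg h, R.h0_eq u e]

theorem det_eq (g : SL(2, F)) : g 0 0 * g 1 1 - g 0 1 * g 1 0 = 1 := by
  have := g.2
  rwa [Matrix.det_fin_two] at this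

theorem f0_upper (g : SL(2, F)) {u : SL(2, F)} {s : F}
    (hu : (u : Matrix (Fin 2) (Fin 2) F) = !![1, s; 0, 1]) : R.f0 (u * g) = R.x s * R.f0 g := by
  have e : ((u * g : SL(2, F)) : Matrix (Fin 2) (Fin 2) F) =
      !![g 0 0 + s * g 1 0, g 0 1 + s * g 1 1; g 1 0, g 1 1] := by
    show (u : Matrix (Fin 2) (Fin 2) F) * (g : Matrix (Fin 2) (Fin 2) F) = _
    rw [hu]
    ext i j
    fin_cases i <;> fin_cases j <;> simp [Matrix.mul_apply, Fin.sum_univ_two]
  have hd := det_eq g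
  by_cases hc : g 1 0 = 0
  · rw [hc, mul_zero, sub_zero] at hd
    obtain ⟨a, ha⟩ : ∃ a : Fˣ, (a : F) = g 0 0 := ⟨Units.mk0 _ (left_ne_zero_of_mul_eq_one hd), rfl⟩
    rw [R.f0_of_zero (g := u * g) (by simpa [e] using hc) (u := a) (by simp [e, hc, ha]),
      R.f0_of_zero hc ha, ← mul_assoc, R.x_add]
    congr 2
    simp [e, hc]
    linear_combination s * hd
  · obtain ⟨a, ha⟩ : ∃ a : Fˣ, (a : F) = -(g 1 0)⁻¹ :=
      ⟨Units.mk0 _ (neg_ne_zero.2 (inv_ne_zero hc)), rfl⟩
    rw [R.f0_of_ne (g := u * g) (u := a) (by simpa [e] using hc) (by simp [e, ha]),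
      R.f0_of_ne hc ha, ← mul_assoc, ← mul_assoc, ← mul_assoc, ← mul_assoc, R.x_add]
    simp [e]
    congr 3
    field_simp
    ring

theorem hh_push (a : Fˣ) (t : F) : R.hh a * R.x t = R.x ((a : F) * a * t) * R.hh a := by
  rw [← R.hh_x]; group

theorem N_push (a : Fˣ) : R.N * R.hh a = R.hh a⁻¹ * R.N := by rw [← R.N_hh]; group

theorem f0_weyl (g : SL(2, F)) {w : SL(2, F)} (hw : (w : Matrix (Fin 2) (Fin 2) F) = !![0, 1; -1, 0]) :
    R.f0 (w * g) = R.N * R.f0 g := by
  have e : ((w * g : SL(2, F)) : Matrix (Fin 2) (Fin 2) F) =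
      !![g 1 0, g 1 1; -g 0 0, -g 0 1] := by
    show (w : Matrix (Fin 2) (Fin 2) F) * (g : Matrix (Fin 2) (Fin 2) F) = _
    rw [hw]
    ext i j
    fin_cases i <;> fin_cases j <;> simp [Matrix.mul_apply, Fin.sum_univ_two]
  have hd := det_eq g
  by_cases hc : g 1 0 = 0
  · rw [hc, mul_zero, sub_zero] at hd
    have h0 := left_ne_zero_of_mul_eq_one hd
    obtain ⟨a, ha⟩ : ∃ a : Fˣ, (a : F) = g 0 0 := ⟨Units.mk0 _ h0, rfl⟩
    rw [R.f0_of_ne (g := w * g) (u := a⁻¹) (by simpa [e] using h0) (by simp [e, ha, inv_neg]),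
      R.f0_of_zero hc ha]
    have e1 : R.x (g 0 1 * g 0 0) * R.hh a = R.hh a * R.x (g 0 1 / g 0 0) := by
      rw [R.hh_push, ha]
      congr 2
      field_simp
    rw [e1, ← mul_assoc R.N, R.N_push]
    simp [e, hc, R.x_zero, neg_div_neg_eq]
  · obtain ⟨c, hc'⟩ : ∃ c : Fˣ, (c : F) = g 1 0 := ⟨Units.mk0 _ hc, rfl⟩
    rw [R.f0_of_ne (u := -c⁻¹) hc (by simp [hc'])]
    have hNN : R.hh (-c) * (R.N * R.N) = R.hh c := by
      rw [R.N_sq, mul_inv_eq_iff_eq_mul, ← map_mul, mul_neg_one]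
    by_cases ha : g 0 0 = 0
    · rw [R.f0_of_zero (g := w * g) (by simpa [e] using ha) (u := c) (by simp [e, hc']), ha,
        zero_div, R.x_zero, one_mul]
      have e1 : R.N * (R.hh (-c⁻¹) * R.N * R.x (g 1 1 / g 1 0)) = R.hh c * R.x (g 1 1 / g 1 0) := by
        rw [← mul_assoc, ← mul_assoc, R.N_push, inv_neg, inv_inv, mul_assoc (R.hh (-c)), hNN]
      rw [e1, R.hh_push, hc']
      congr 2
      simp [e]
      field_simp
    · obtain ⟨a, ha'⟩ : ∃ a : Fˣ, (a : F) = g 0 0 := ⟨Units.mk0 _ ha, rfl⟩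
      rw [R.f0_of_ne (g := w * g) (u := a⁻¹) (by simpa [e] using ha) (by simp [e, ha', inv_neg])]
      set v : Fˣ := a * c⁻¹
      have hv : (v : F) = g 0 0 / g 1 0 := by simp [v, ha', hc', div_eq_mul_inv]
      have hy : R.N * R.x (v : F) * R.N⁻¹ =
          R.x (-(v : F)⁻¹) * (R.hh v⁻¹ * R.N) * R.x (-(v : F)⁻¹) := by
        rw [R.n_eq, ← R.x_inv, ← Units.val_inv_eq_inv_val, Units.val_inv_eq_inv_val, inv_inv,
          ← Units.val_inv_eq_inv_val]
        group
      have e2 : R.hh v⁻¹ * R.N * R.x (-(v : F)⁻¹) * R.hh c =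
          (R.hh a⁻¹ * R.N) * R.x (-(v : F)⁻¹ / ((c : F) * c)) := by
        have e3 : R.x (-(v : F)⁻¹) * R.hh c = R.hh c * R.x (-(v : F)⁻¹ / ((c : F) * c)) := by
          rw [R.hh_push]; congr 2; field_simp
        rw [mul_assoc, e3, ← mul_assoc, mul_assoc (R.hh v⁻¹), R.N_push, ← mul_assoc, ← map_mul]
        congr 3
        simp [v, mul_comm]
      calc R.x ((w * g : SL(2, F)) 0 0 / (w * g : SL(2, F)) 1 0) * (R.hh a⁻¹ * R.N) *
            R.x ((w * g : SL(2, F)) 1 1 / (w * g : SL(2, F)) 1 0)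
          = R.x (-(v : F)⁻¹) * ((R.hh a⁻¹ * R.N) * R.x (-(v : F)⁻¹ / ((c : F) * c))) *
              R.x (g 1 1 / g 1 0) := by
            have h1 : (w * g : SL(2, F)) 0 0 / (w * g : SL(2, F)) 1 0 = -(v : F)⁻¹ := by
              simp [e, hv]
              field_simp
            have h2 : (w * g : SL(2, F)) 1 1 / (w * g : SL(2, F)) 1 0 =
                -(v : F)⁻¹ / ((c : F) * c) + g 1 1 / g 1 0 := by
              simp [e, hv, hc']
              field_simp
              linear_combination -hd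
            rw [h1, h2, ← R.x_add]; group
        _ = R.N * R.x (v : F) * R.N⁻¹ * (R.hh c) * R.x (g 1 1 / g 1 0) := by
            rw [hy, ← e2]; group
        _ = _ := by
            rw [← hv]
            have e4 : R.hh c = R.N * R.hh (-c⁻¹) * R.N := by
              rw [R.N_push, inv_neg, inv_inv, mul_assoc, hNN]
            rw [e4]; group

/-- upper unitriangular matrices -/
def up (s : F) : SL(2, F) := ⟨!![1, s; 0, 1], by simp [Matrix.det_fin_two]⟩

/-- lower unitriangular matrices -/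
def dn (s : F) : SL(2, F) := ⟨!![1, 0; s, 1], by simp [Matrix.det_fin_two]⟩

/-- the Weyl element -/
def wS : SL(2, F) := ⟨!![0, 1; -1, 0], by simp [Matrix.det_fin_two]⟩

@[simp] theorem up_val (s : F) : (up s : Matrix (Fin 2) (Fin 2) F) = !![1, s; 0, 1] := rfl
@[simp] theorem dn_val (s : F) : (dn s : Matrix (Fin 2) (Fin 2) F) = !![1, 0; s, 1] := rfl
@[simp] theorem wS_val : ((wS : SL(2, F)) : Matrix (Fin 2) (Fin 2) F) = !![0, 1; -1, 0] := rfl

theorem closure_gens : Subgroup.closure (Set.range (up (F := F)) ∪ {wS}) = ⊤ := by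
  rw [eq_top_iff]
  rintro g -
  set S := Subgroup.closure (Set.range (up (F := F)) ∪ {wS})
  have hu : ∀ s, up s ∈ S := fun s => Subgroup.subset_closure (Or.inl ⟨s, rfl⟩)
  have hw : (wS : SL(2, F)) ∈ S := Subgroup.subset_closure (Or.inr rfl)
  have key : ∀ g : SL(2, F), g 1 0 ≠ 0 → g ∈ S := by
    intro g hc
    obtain ⟨c, hc'⟩ : ∃ c : F, c = g 1 0 := ⟨_, rfl⟩
    let n : SL(2, F) := up (-c⁻¹) * (wS * up (-c) * wS⁻¹) * up (-c⁻¹)
    have e : g = up (g 0 0 / c) * n * up (g 1 1 / c) := by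
      have hd := det_eq g
      refine Subtype.ext ?_
      ext i j
      subst hc'
      fin_cases i <;> fin_cases j <;>
        simp [n, Matrix.mul_apply, Fin.sum_univ_two, SpecialLinearGroup.coe_mul,
          Matrix.adjugate_fin_two, SpecialLinearGroup.coe_inv] <;> field_simp <;>
        first | linear_combination hd | linear_combination -hd | ring1
    rw [e]
    exact mul_mem (mul_mem (hu _) (mul_mem (mul_mem (hu _)
      (mul_mem (mul_mem hw (hu _)) (inv_mem hw))) (hu _))) (hu _)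
  by_cases hc : g 1 0 = 0
  · have hd := det_eq g
    rw [hc, mul_zero, sub_zero] at hd
    have h2 : (wS * g : SL(2, F)) 1 0 ≠ 0 := by
      simp [SpecialLinearGroup.coe_mul, Matrix.mul_apply, Fin.sum_univ_two,
        left_ne_zero_of_mul_eq_one hd]
    simpa using mul_mem (inv_mem hw) (key _ h2)
  · exact key g hc

/-- the homomorphism -/
theorem exists_hom : ∃ φ : SL(2, F) →* G, ∀ (g : SL(2, F)) (t : F),
    ((g : Matrix (Fin 2) (Fin 2) F) = !![1, t; 0, 1] → φ g = R.x t) ∧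
    ((g : Matrix (Fin 2) (Fin 2) F) = !![1, 0; t, 1] → φ g = R.y t) := by
  have h1 : R.f0 1 = 1 := by
    rw [R.f0_of_zero (by simp) (u := 1) (by simp)]; simp [R.x_zero]
  have hmul : ∀ g g' : SL(2, F), R.f0 (g * g') = R.f0 g * R.f0 g' := by
    suffices ∀ g, ∀ g', R.f0 (g * g') = R.f0 g * R.f0 g' from this
    intro g
    have hg : g ∈ Subgroup.closure (Set.range (up (F := F)) ∪ {wS}) := by rw [closure_gens]; trivial
    induction hg using Subgroup.closure_induction_left with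
    | one => intro g'; rw [one_mul, h1, one_mul]
    | mul_left a ha b _ ih =>
      intro g'
      rcases ha with ⟨s, rfl⟩ | rfl
      · rw [mul_assoc, R.f0_upper _ (up_val _), ih, R.f0_upper _ (up_val _), mul_assoc]
      · rw [mul_assoc, R.f0_weyl _ wS_val, ih, R.f0_weyl _ wS_val, mul_assoc]
    | inv_mul_cancel a ha b _ ih =>
      intro g'
      rcases ha with ⟨s, rfl⟩ | rfl
      · rw [mul_assoc, ← inv_mul_cancel_left (R.x s) (R.f0 ((up s)⁻¹ * (b * g'))),
          ← R.f0_upper _ (up_val _), mul_inv_cancel_left, ih,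
          ← inv_mul_cancel_left (R.x s) (R.f0 ((up s)⁻¹ * b)), ← R.f0_upper _ (up_val _),
          mul_inv_cancel_left, mul_assoc]
      · rw [mul_assoc, ← inv_mul_cancel_left R.N (R.f0 (wS⁻¹ * (b * g'))), ← R.f0_weyl _ wS_val,
          mul_inv_cancel_left, ih, ← inv_mul_cancel_left R.N (R.f0 (wS⁻¹ * b)),
          ← R.f0_weyl _ wS_val, mul_inv_cancel_left, mul_assoc]
  refine ⟨MonoidHom.mk' R.f0 hmul, fun g t => ⟨fun e => ?_, fun e => ?_⟩⟩
  · show R.f0 g = _
    rw [R.f0_of_zero (by simp [e]) (u := 1) (by simp [e])]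
    simp [e]
  · show R.f0 g = _
    by_cases ht : t = 0
    · rw [R.f0_of_zero (by simp [e, ht]) (u := 1) (by simp [e])]
      simp [e, ht, y, R.x_zero]
    · obtain ⟨c, hc⟩ : ∃ c : Fˣ, (c : F) = -t⁻¹ :=
        ⟨Units.mk0 _ (neg_ne_zero.2 (inv_ne_zero ht)), rfl⟩
      rw [R.f0_of_ne (u := c) (by simpa [e] using ht) (by simp [e, hc]), R.n_eq, hc,
        show (-t⁻¹)⁻¹ = -t by rw [inv_neg, inv_inv]]
      simp only [e, y]
      rw [← R.x_inv t⁻¹]
      simp [div_eq_mul_inv]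
      group

/-- scaling of the off-diagonal entries by a square root of one -/
def twistFun (k : F) (hk : k * k = 1) (y : SL(2, F)) : SL(2, F) :=
  ⟨!![y 0 0, k * y 0 1; k * y 1 0, y 1 1], by
    rw [Matrix.det_fin_two]
    simp
    linear_combination det_eq y - y 0 1 * y 1 0 * hk⟩

@[simp] theorem twistFun_val (k : F) (hk : k * k = 1) (y : SL(2, F)) :
    (twistFun k hk y : Matrix (Fin 2) (Fin 2) F) = !![y 0 0, k * y 0 1; k * y 1 0, y 1 1] := rfl

/-- the twist as a homomorphism -/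
def twist (k : F) (hk : k * k = 1) : SL(2, F) →* SL(2, F) :=
  MonoidHom.mk' (twistFun k hk) fun a b => by
    refine Subtype.ext ?_
    ext p q
    fin_cases p <;> fin_cases q <;>
      simp [SpecialLinearGroup.coe_mul, Matrix.mul_apply, Fin.sum_univ_two] <;>
      first
        | ring1
        | linear_combination (-(a 0 1 * b 1 0)) * hk
        | linear_combination (-(a 1 0 * b 0 1)) * hk

@[simp] theorem twist_apply (k : F) (hk : k * k = 1) (y : SL(2, F)) : twist k hk y = twistFun k hk y :=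
  rfl

end R1Data

variable {D : ChevalleyDatum} {A : Aux}

/-- the data for a fundamental root -/
noncomputable def simpleR1 (g : Good D A) (i : Fin D.rank) : R1Data F (GL D.Idx F) where
  x t := xG g (D.simple i) t
  hh := (tor D A).comp (MonoidHom.mulSingle (fun _ : Fin D.rank => Fˣ) i)
  N := nS F g i
  x_add t u := xG_add g _ t u
  hh_x a t := by
    simp only [MonoidHom.coe_comp, Function.comp_apply, MonoidHom.mulSingle_apply]
    rw [tor_conj_xG g _ (g.simple_lt i i.isLt)]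
    congr 2
    rw [chi, Finset.prod_eq_single i]
    · rw [g.cart_simple i i.isLt, Pi.mulSingle_eq_same, zpow_two, Units.val_mul]
    · intro k _ hk; simp [hk]
    · simp
  N_hh a := by
    simp only [MonoidHom.coe_comp, Function.comp_apply, MonoidHom.mulSingle_apply]
    rw [nS_conj_tor g i.isLt, ← Pi.mulSingle_mul]
    congr 2
    rw [Finset.prod_eq_single i]
    · rw [g.cart_simple i i.isLt, Pi.mulSingle_eq_same, _root_.zpow_neg, zpow_two]; group
    · intro k _ hk; simp [hk]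
    · simp
  n_eq c := by
    simp only [MonoidHom.coe_comp, Function.comp_apply, MonoidHom.mulSingle_apply]
    have hp := g.simple_lt i i.isLt
    rw [← hG_simple g i c, hG, nS, nG_neg g hp, inv_mul_cancel_right]
    have := nS_conj_xG g i.isLt hp ((c : F)⁻¹)
    rw [nS] at this
    rw [this, refl_simple g i.isLt, g.eta_simple i i.isLt, nG, g.neg_eq _ hp]
    simp
  N_sq := by
    simp only [MonoidHom.coe_comp, Function.comp_apply, MonoidHom.mulSingle_apply]
    rw [nS_sq g i.isLt, ← hG_simple g i (-1)]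
    simp

/-- the homomorphisms from `SL₂` -/
theorem exists_sl2 (g : Good D A) : ∀ r < D.nroots,
    ∃ φ : SL(2, F) →* GL D.Idx F, ∀ (y : SL(2, F)) (t : F),
      ((y : Matrix (Fin 2) (Fin 2) F) = !![1, t; 0, 1] → φ y = xG g r t) ∧
      ((y : Matrix (Fin 2) (Fin 2) F) = !![1, 0; t, 1] → φ y = xG g (A.neg r) t) := by
  refine root_induction g (fun j hj _ => ?_) ?_
  · obtain ⟨φ, hφ⟩ := (simpleR1 (F := F) g ⟨j, hj⟩).exists_hom
    refine ⟨φ, fun y t => ⟨(hφ y t).1, fun e => ((hφ y t).2 e).trans ?_⟩⟩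
    show nS F g j * xG g (D.simple j) (-t) * (nS F g j)⁻¹ = _
    rw [nS_conj_xG g hj (g.simple_lt j hj), refl_simple g hj, g.eta_simple j hj]
    simp
  intro i hi r hr ⟨φ, hφ⟩
  obtain ⟨k, hk, hk2⟩ : ∃ k : F, k = (A.eta i r : F) ∧ k * k = 1 := ⟨_, rfl, eta_sq g hi hr⟩
  let τ : SL(2, F) →* SL(2, F) := R1Data.twist k hk2
  refine ⟨((MulAut.conj (nS F g i)).toMonoidHom.comp φ).comp τ, fun y t => ⟨fun e => ?_, fun e => ?_⟩⟩
  · show nS F g i * φ (τ y) * (nS F g i)⁻¹ = _
    rw [(hφ (τ y) (k * t)).1 (by simp [τ, e]), nS_conj_xG g hi hr, hk,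
      ← mul_assoc, eta_sq g hi hr, one_mul]
  · show nS F g i * φ (τ y) * (nS F g i)⁻¹ = _
    have hkn : (A.eta i (A.neg r) : F) = A.eta i r := by
      have := g.eta_neg i hi r hr
      rcases g.eta_sign i hi r hr with h | h <;> rw [h] at this ⊢ <;>
        simp at this ⊢ <;> first | simp [this] | (rw [show A.eta i (A.neg r) = -1 by omega]; simp)
    rw [(hφ (τ y) (k * t)).2 (by simp [τ, e]), nS_conj_xG g hi (g.neg_lt r hr), hkn, hk,
      g.refl_neg i hi r hr, ← mul_assoc, eta_sq g hi hr, one_mul]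

/-- the image is generated by the two root subgroups -/
theorem sl2_range (g : Good D A) {r : ℕ} {φ : SL(2, F) →* GL D.Idx F}
    (hφ : ∀ (y : SL(2, F)) (t : F),
      ((y : Matrix (Fin 2) (Fin 2) F) = !![1, t; 0, 1] → φ y = xG g r t) ∧
      ((y : Matrix (Fin 2) (Fin 2) F) = !![1, 0; t, 1] → φ y = xG g (A.neg r) t))
    (hn : D.neg r = A.neg r) :
    φ.range = D.rootSubgroup F r ⊔ D.rootSubgroup F (D.neg r) := by
  refine le_antisymm ?_ (sup_le ?_ ?_)
  · rw [MonoidHom.range_eq_map, ← R1Data.closure_gens (F := F), MonoidHom.map_closure,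
      Subgroup.closure_le]
    rintro _ ⟨_, ⟨s, rfl⟩ | rfl, rfl⟩
    · rw [(hφ _ s).1 rfl]
      exact Subgroup.mem_sup_left ((mem_rootSubgroup_iff g).2 ⟨s, rfl⟩)
    · have e : (R1Data.wS : SL(2, F)) = R1Data.up 1 * R1Data.dn (-1) * R1Data.up 1 := by
        refine Subtype.ext ?_
        ext p q
        fin_cases p <;> fin_cases q <;>
          simp [SpecialLinearGroup.coe_mul, Matrix.mul_apply, Fin.sum_univ_two]
      rw [e, map_mul, map_mul, (hφ _ 1).1 rfl, (hφ (R1Data.dn (-1)) (-1)).2 rfl, hn]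
      exact mul_mem (mul_mem (Subgroup.mem_sup_left ((mem_rootSubgroup_iff g).2 ⟨1, rfl⟩))
        (Subgroup.mem_sup_right ((mem_rootSubgroup_iff g).2 ⟨_, rfl⟩)))
        (Subgroup.mem_sup_left ((mem_rootSubgroup_iff g).2 ⟨1, rfl⟩))
  · intro y hy
    obtain ⟨t, rfl⟩ := (mem_rootSubgroup_iff g).1 hy
    exact ⟨R1Data.up t, (hφ _ t).1 rfl⟩
  · intro y hy
    obtain ⟨t, rfl⟩ := (mem_rootSubgroup_iff g).1 hy
    exact ⟨R1Data.dn t, by rw [(hφ (R1Data.dn t) t).2 rfl, hn]⟩

end CfsgLib.Steinberg
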