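import Cfsg.Agent.Lib.Steinberg.Presented
import Cfsg.Agent.Lib.Chev.TorusCard

/-!
When the lifted torus elements of a fundamental root multiply as scalars, the centre is the image of the
kernel of the torus map.
-/

set_option autoImplicit false

namespace CfsgLib.Steinberg

open Cfsg.Lie Matrix CfsgLib.Chev

variable {D : ChevalleyDatum} {A : Aux} {F : Type*} [Field F] {E : Type*} [Group E]

/-- relations (R3) for the fundamental roots -/
def MulHH {g : Good D A} (P : Pre g F E) : Prop :=
  ∀ i < D.rank, ∀ s t : Fˣ, HH P i ((s * t : Fˣ) : F) = HH P i (s : F) * HH P i (t : F)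

/-- the lifted torus of one fundamental root -/
noncomputable def hHom {g : Good D A} {P : Pre g F E} (hm : MulHH P) (i : Fin D.rank) : Fˣ →* E :=
  MonoidHom.mk' (fun t => HH P i (t : F)) fun s t => hm i i.isLt s t

section

variable {h : Std D A} {P : Pre h.good F E}

theorem hHom_comm (hd : Data h P) (hm : MulHH P) (i j : Fin D.rank) (s t : Fˣ) :
    Commute (hHom hm i s) (hHom hm j t) := by
  set c : Fˣ := chi D A (Pi.mulSingle i s) (D.simple j)
  have g := h.good
  have hp := g.simple_lt j j.isLt
  have hh := moves_HH h hd.st hd.split i s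
  have hN : ∀ u : F, HH P i (s : F) * NN P j u * (HH P i (s : F))⁻¹ = NN P j ((c : F) * u) := by
    intro u
    rw [NN, show ∀ a b d y : E, y * (a * b * d) * y⁻¹ = (y * a * y⁻¹) * (y * b * y⁻¹) * (y * d * y⁻¹)
      from fun a b d y => by group, hh _ hp, hh _ (g.neg_lt _ hp), NN]
    simp only [id_eq, chi_neg g _ hp, Units.val_inv_eq_inv_val, mul_inv, mul_neg]
    rfl
  have key : HH P i (s : F) * HH P j (t : F) * (HH P i (s : F))⁻¹ = HH P j (t : F) := by
    calc HH P i (s : F) * HH P j (t : F) * (HH P i (s : F))⁻¹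
        = (HH P i (s : F) * NN P j (t : F) * (HH P i (s : F))⁻¹) *
            (HH P i (s : F) * NN P j (-1) * (HH P i (s : F))⁻¹) := by
          rw [show HH P j (t : F) = NN P j (t : F) * NN P j (-1) from rfl]; group
      _ = NN P j ((c * t : Fˣ) : F) * (NN P j (c : F))⁻¹ := by
          rw [hN, hN, Units.val_mul, mul_neg_one, NN_neg P j.isLt]
      _ = _ := by
          rw [NN_eq P j.isLt, NN_eq P j.isLt (c : F), mul_comm c t, hm j j.isLt]
          group
  exact mul_inv_eq_iff_eq_mul.1 key

/-- the lifted torus as a homomorphism -/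
noncomputable def torE (hd : Data h P) (hm : MulHH P) : (Fin D.rank → Fˣ) →* E :=
  MonoidHom.noncommPiCoprod (hHom hm) fun i j _ s t => hHom_comm hd hm i j s t

theorem torE_single (hd : Data h P) (hm : MulHH P) (i : Fin D.rank) (t : Fˣ) :
    torE hd hm (Pi.mulSingle i t) = HH P i (t : F) := by
  unfold torE
  exact MonoidHom.noncommPiCoprod_mulSingle (ϕ := hHom hm) (hcomm := fun i j _ s t => hHom_comm hd hm i j s t) i t

theorem π_torE (hd : Data h P) (hm : MulHH P) (c : Fin D.rank → Fˣ) :
    P.π (torE hd hm c) = tor D A c := by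
  suffices P.π.comp (torE hd hm) = tor D A from DFunLike.congr_fun this c
  refine MonoidHom.pi_ext fun i x => ?_
  rw [MonoidHom.comp_apply, torE_single, π_HH P i.isLt, hG_simple]

theorem HB_le_range (hd : Data h P) (hm : MulHH P) : HB P ≤ (torE hd hm).range := by
  refine (Subgroup.closure_le _).2 ?_
  rintro _ ⟨i, t, hi, ht, rfl⟩
  exact ⟨Pi.mulSingle ⟨i, hi⟩ (Units.mk0 t ht), torE_single hd hm _ _⟩

theorem center_eq_map (hd : Data h P) (hm : MulHH P) :
    Subgroup.center E = ((tor D A : (Fin D.rank → Fˣ) →* GL D.Idx F).ker).map (torE hd hm) := by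
  rw [center_eq_ker hd]
  ext y
  constructor
  · intro hy
    obtain ⟨c, rfl⟩ := HB_le_range hd hm (ker_le_HB hd hy)
    exact ⟨c, by rw [SetLike.mem_coe, MonoidHom.mem_ker, ← π_torE hd hm]; exact hy, rfl⟩
  · rintro ⟨c, hc, rfl⟩
    rw [MonoidHom.mem_ker, π_torE]
    exact hc

end

/-- the torus map is injective when the Cartan matrix is unimodular -/
theorem tor_injective (g : Good D A) {U Ui V Vi : Matrix (Fin D.rank) (Fin D.rank) ℤ}
    (hc : smithCheck D A U Ui V Vi (fun _ => 1) = true) :
    Function.Injective (tor D A : (Fin D.rank → Fˣ) →* GL D.Idx F) := by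
  rw [injective_iff_map_eq_one]
  intro c hc1
  simp only [smithCheck, List.all_eq_true, List.mem_finRange, forall_const, Bool.and_eq_true,
    decide_eq_true_eq] at hc
  have h1 : U * cartanM D A * V = 1 := Matrix.ext fun i k => by
    rw [(hc i k).1.1, Matrix.one_apply]; simp
  have h2 : U * Ui = 1 := Matrix.ext fun i k => by rw [(hc i k).1.2, Matrix.one_apply]
  have h3 : V * Vi = 1 := Matrix.ext fun i k => by rw [(hc i k).2, Matrix.one_apply]
  have h2' : Ui * U = 1 := mul_eq_one_comm.1 h2
  have h3' : Vi * V = 1 := mul_eq_one_comm.1 h3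
  have hM : cartanM D A * (V * U) = 1 := by
    calc cartanM D A * (V * U) = (Ui * U) * cartanM D A * (V * U) := by rw [h2', one_mul]
      _ = Ui * (U * cartanM D A * V) * U := by simp only [mul_assoc]
      _ = 1 := by rw [h1, mul_one, h2']
  have e := congrArg (mHom F (V * U)) ((tor_eq_one_iff g c).1 hc1)
  rwa [mHom_mul, hM, mHom_one, map_one] at e

/-- the relations (R3) hold in the group of all three relators -/
theorem mulHH_steinberg (h : Std D A) :
    MulHH (presPre h (relsAB_subset F) (le_refl (D.steinbergRels F))) := by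
  intro i hi s t
  have hg := PresentedGroup.one_of_mem (rels := D.steinbergRels F)
    (Or.inr ⟨D.simple i, (s : F), (t : F), h.good.simple_lt i hi, s.ne_zero, t.ne_zero, rfl⟩)
  rw [map_mul, map_mul, map_inv, mul_inv_eq_one, mk_stH h (relsAB_subset F) (le_refl _) hi,
    mk_stH h (relsAB_subset F) (le_refl _) hi, mk_stH h (relsAB_subset F) (le_refl _) hi] at hg
  rw [Units.val_mul]
  exact hg.symm

/-- the centre is trivial for a unimodular Cartan matrix -/
theorem center_bot (h : Std D A) (hC : splitChk D A = true)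
    {U Ui V Vi : Matrix (Fin D.rank) (Fin D.rank) ℤ}
    (hc : smithCheck D A U Ui V Vi (fun _ => 1) = true) :
    Subgroup.center (D.SteinbergGroup F) = ⊥ := by
  rw [center_eq_map (presData h hC (relsAB_subset F) (le_refl _)) (mulHH_steinberg h),
    (MonoidHom.ker_eq_bot_iff _).2 (tor_injective h.good hc), Subgroup.map_bot]

end CfsgLib.Steinberg
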