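import Cfsg.Agent.Lib.Steinberg.UniversalTypes

/-!
Projective representations in the defining characteristic lift to the group of the relators (R1), (R2):
the unipotent elements have unique lifts of order `p`.
-/

set_option autoImplicit false

namespace CfsgLib.Steinberg

open Cfsg.Lie Matrix CfsgLib.Chev
open scoped commutatorElement

variable {L : Type*} [Field L] {n : ℕ} {p : ℕ}

theorem center_eq_one [CharP L p] (hp : p.Prime) {z : GL (Fin n) L}
    (hz : z ∈ Subgroup.center (GL (Fin n) L)) (e : z ^ p = 1) : z = 1 := by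
  haveI := Fact.mk hp
  rw [GeneralLinearGroup.center_eq_range_scalar] at hz
  obtain ⟨a, rfl⟩ := hz
  rcases Nat.eq_zero_or_pos n with rfl | hn
  · exact Units.ext (Subsingleton.elim _ _)
  have h1 : (a : L) ^ p = 1 := by
    have := congrArg (fun y : GL (Fin n) L => (y : Matrix (Fin n) (Fin n) L) ⟨0, hn⟩ ⟨0, hn⟩) e
    rw [← map_pow] at this
    simpa [GeneralLinearGroup.scalar, Matrix.diagonal_pow] using this
  have h2 : ((a : L) - 1) ^ p = 0 := by rw [sub_pow_char, h1, one_pow, sub_self]
  have h3 : a = 1 := Units.ext (by simpa [sub_eq_zero] using pow_eq_zero_iff hp.ne_zero |>.1 h2)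
  rw [h3, map_one]

theorem exists_order_lift [IsAlgClosed L] (hp : p.Prime) {y : GL (Fin n) L}
    (hy : y ^ p ∈ Subgroup.center (GL (Fin n) L)) :
    ∃ z ∈ Subgroup.center (GL (Fin n) L), (y * z) ^ p = 1 := by
  rw [GeneralLinearGroup.center_eq_range_scalar] at hy ⊢
  obtain ⟨a, ha⟩ := hy
  obtain ⟨b, hb⟩ := IsAlgClosed.exists_pow_nat_eq ((a : L)⁻¹) hp.pos
  have hb0 : b ≠ 0 := by
    rintro rfl
    rw [zero_pow hp.ne_zero] at hb
    exact inv_ne_zero a.ne_zero hb.symm
  set z := GeneralLinearGroup.scalar (Fin n) (Units.mk0 b hb0)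
  have hz : z ∈ Subgroup.center (GL (Fin n) L) := by
    rw [GeneralLinearGroup.center_eq_range_scalar]; exact ⟨_, rfl⟩
  refine ⟨z, ⟨_, rfl⟩, ?_⟩
  rw [(show Commute y z from Subgroup.mem_center_iff.1 hz y).mul_pow, ← ha, ← map_pow, ← map_mul,
    show a * Units.mk0 b hb0 ^ p = 1 from Units.ext (by simp [hb]), map_one]

section lift

variable {K : Type*} [Field K] {D : ChevalleyDatum} {A : Aux} (h : Std D A) (hC : splitChk D A = true)

/-- the pullback of the projective linear group along a projective representation -/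
def projPull (ρ : D.SteinbergCover K →* GL (Fin n) L ⧸ Subgroup.center (GL (Fin n) L)) :
    Subgroup (GL (Fin n) L × D.SteinbergCover K) :=
  MonoidHom.eqLocus ((QuotientGroup.mk' (Subgroup.center (GL (Fin n) L))).comp
      (MonoidHom.fst (GL (Fin n) L) (D.SteinbergCover K)))
    (ρ.comp (MonoidHom.snd (GL (Fin n) L) (D.SteinbergCover K)))

include h hC in
theorem exists_lift_charP [IsAlgClosed L] [CharP L p] [CharP K p] (hp : p.Prime)
    (ρ : D.SteinbergCover K →* GL (Fin n) L ⧸ Subgroup.center (GL (Fin n) L)) :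
    ∃ τ : D.SteinbergCover K →* GL (Fin n) L,
      (QuotientGroup.mk' (Subgroup.center (GL (Fin n) L))).comp τ = ρ := by
  have g := h.good
  set P₀ := presPre h (le_refl (D.steinbergRelsAB K)) (relsAB_subset K)
  have hd : Data h P₀ := presData h hC _ _
  let q : projPull ρ →* D.SteinbergCover K :=
    (MonoidHom.snd (GL (Fin n) L) (D.SteinbergCover K)).comp (projPull ρ).subtype
  have hmem : ∀ x : projPull ρ, (x.1.1 : GL (Fin n) L ⧸ Subgroup.center (GL (Fin n) L)) = ρ (q x) :=
    fun x => x.2
  have hsur : Function.Surjective q := fun y => by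
    obtain ⟨x, hx⟩ := QuotientGroup.mk_surjective (ρ y)
    exact ⟨⟨(x, y), hx⟩, rfl⟩
  have hker : ∀ x : projPull ρ, q x = 1 → x.1.1 ∈ Subgroup.center (GL (Fin n) L) := fun x hx => by
    rw [← QuotientGroup.eq_one_iff, hmem x, hx, map_one]
  have hcen : q.ker ≤ Subgroup.center (projPull ρ) := fun x hx => by
    rw [Subgroup.mem_center_iff]
    intro w
    refine Subtype.ext (Prod.ext (Subgroup.mem_center_iff.1 (hker x hx) _) ?_)
    show w.1.2 * x.1.2 = x.1.2 * w.1.2
    rw [show x.1.2 = 1 from hx, mul_one, one_mul]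
  -- elements of order dividing `p` are determined by their images
  have huniq : ∀ x y : projPull ρ, x.1.1 ^ p = 1 → y.1.1 ^ p = 1 → q x = q y → x = y := by
    intro x y hx hy e
    refine Subtype.ext (Prod.ext ?_ e)
    have hz : x.1.1⁻¹ * y.1.1 ∈ Subgroup.center (GL (Fin n) L) :=
      hker (x⁻¹ * y) (by rw [map_mul, map_inv, e, inv_mul_cancel])
    have h1 : x.1.1⁻¹ * y.1.1 = 1 := by
      refine center_eq_one hp hz ?_
      have hc : Commute x.1.1 (x.1.1⁻¹ * y.1.1) := Subgroup.mem_center_iff.1 hz _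
      rw [show y.1.1 = x.1.1 * (x.1.1⁻¹ * y.1.1) by group, hc.mul_pow, hx, one_mul] at hy
      exact hy
    exact inv_mul_eq_one.1 h1
  have hex : ∀ r t, ∃ x : projPull ρ, r < D.nroots → x.1.1 ^ p = 1 ∧ q x = P₀.X r t := by
    intro r t
    by_cases hr : r < D.nroots
    swap
    · exact ⟨1, fun h => absurd h hr⟩
    obtain ⟨x, hx⟩ := hsur (P₀.X r t)
    have hpow : ∀ m : ℕ, P₀.X r t ^ m = P₀.X r ((m : K) * t) := by
      intro m
      induction m with
      | zero => simp [P₀.zero hr]
      | succ m ih => rw [pow_succ, ih, P₀.add r hr]; congr 1; push_cast; ring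
    have hc : x.1.1 ^ p ∈ Subgroup.center (GL (Fin n) L) :=
      hker (x ^ p) (by rw [map_pow, hx, hpow, CharP.cast_eq_zero, zero_mul, P₀.zero hr])
    obtain ⟨z, hz, e⟩ := exists_order_lift hp hc
    refine ⟨⟨(x.1.1 * z, x.1.2), ?_⟩, fun _ => ⟨e, hx⟩⟩
    show ((x.1.1 * z : GL (Fin n) L) : GL (Fin n) L ⧸ Subgroup.center (GL (Fin n) L)) = ρ x.1.2
    rw [QuotientGroup.mk_mul, (QuotientGroup.eq_one_iff z).2 hz, mul_one]
    exact x.2
  choose ψ hψ using hex
  have hψp := fun r t hr => (hψ r t hr).1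
  have hψq := fun r t hr => (hψ r t hr).2
  let Ld : LiftData P₀ q :=
    { ψ := ψ
      central := hcen
      lift := fun r hr t => hψq r t hr
      add := fun r hr t u => by
        have hc : Commute (ψ r t) (ψ r u) := by
          have e : ψ r t * ψ r u * (ψ r t)⁻¹ = ψ r u := by
            refine huniq _ _ ?_ (hψp r u hr) ?_
            · show (ψ r t * ψ r u * (ψ r t)⁻¹).1.1 ^ p = 1
              simp only [Subgroup.coe_mul, Subgroup.coe_inv, Prod.fst_mul, Prod.fst_inv]
              rw [conj_pow, hψp r u hr]; group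
            · rw [map_mul, map_mul, map_inv, hψq r t hr, hψq r u hr, P₀.inv hr, P₀.add r hr,
                P₀.add r hr]
              congr 1
              ring
          exact mul_inv_eq_iff_eq_mul.1 e
        refine huniq _ _ ?_ (hψp r _ hr) ?_
        · simp only [Subgroup.coe_mul, Prod.fst_mul]
          have hc' : Commute (ψ r t).1.1 (ψ r u).1.1 :=
            congrArg (fun x : projPull ρ => x.1.1) hc.eq
          rw [hc'.mul_pow, hψp r t hr, hψp r u hr, one_mul]
        · rw [map_mul, hψq r t hr, hψq r u hr, hψq r _ hr, P₀.add r hr] }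
  have hN : Ld.Equiv := by
    intro i hi
    obtain ⟨x, hx⟩ := hsur (NN P₀ i 1)
    refine ⟨x, fun r hr t => huniq _ _ ?_ (hψp _ _ (g.refl_lt i hi r hr)) ?_⟩
    · show (x * ψ r t * x⁻¹).1.1 ^ p = 1
      simp only [Subgroup.coe_mul, Subgroup.coe_inv, Prod.fst_mul, Prod.fst_inv]
      rw [conj_pow, hψp r t hr]; group
    · show q (x * ψ r t * x⁻¹) = q (ψ (A.refl i r) _)
      rw [map_mul, map_mul, map_inv, hx, hψq r t hr, moves_NN h hd.st hd.split hi r hr,
        hψq _ _ (g.refl_lt i hi r hr)]
  have hk : Ld.Kill := by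
    intro r hr s hs hsr hsn
    left
    intro t hadd u
    have hm : ∀ m : ℕ, Ld.defect r s t ((m : K) * u) = Ld.defect r s t u ^ m := by
      intro m
      induction m with
      | zero =>
        have := hadd 0 0
        rw [add_zero, left_eq_mul] at this
        simpa using this
      | succ m ih => rw [pow_succ, ← ih, ← hadd]; congr 1; push_cast; ring
    have hpe : Ld.defect r s t u ^ p = 1 := by
      rw [← hm, CharP.cast_eq_zero, zero_mul]
      simpa using hm 0
    have hq1 : q (Ld.defect r s t u) = 1 := Ld.p_defect hd hr hs hsr hsn t u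
    have h1 : (Ld.defect r s t u).1.1 = 1 := center_eq_one hp (hker _ hq1)
      (congrArg (fun x : projPull ρ => x.1.1) hpe)
    exact Subtype.ext (Prod.ext h1 hq1)
  obtain ⟨τ, hτ⟩ := exists_section hC Ld (Ld.isSt hd hk hN)
  refine ⟨((MonoidHom.fst (GL (Fin n) L) (D.SteinbergCover K)).comp (projPull ρ).subtype).comp τ,
    MonoidHom.ext fun x => ?_⟩
  show ((τ x).1.1 : GL (Fin n) L ⧸ Subgroup.center (GL (Fin n) L)) = ρ x
  rw [hmem (τ x)]
  exact congrArg ρ (DFunLike.congr_fun hτ x)

end lift

theorem scalar_center_comap {L' : Type*} [Field L'] (f : L →+* L') {y : GL (Fin n) L}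
    (hy : GeneralLinearGroup.map f y ∈ Subgroup.center (GL (Fin n) L')) :
    y ∈ Subgroup.center (GL (Fin n) L) := by
  rw [Subgroup.mem_center_iff] at hy ⊢
  intro z
  have hinj : Function.Injective (GeneralLinearGroup.map (n := Fin n) f) := fun a b e => by
    refine Units.ext ?_
    exact Matrix.map_injective f.injective (congrArg Units.val e)
  exact hinj (by rw [map_mul, map_mul]; exact hy _)

/-- the lift exists over the given field -/
theorem exists_lift_field {K : Type*} [Field K] {D : ChevalleyDatum} {A : Aux} (h : Std D A)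
    (hC : splitChk D A = true) (hperf : commutator (D.SteinbergCover K) = ⊤) [CharP L p] [CharP K p]
    (hp : p.Prime) (ρ : D.SteinbergCover K →* GL (Fin n) L ⧸ Subgroup.center (GL (Fin n) L)) :
    ∃ τ : D.SteinbergCover K →* GL (Fin n) L,
      (QuotientGroup.mk' (Subgroup.center (GL (Fin n) L))).comp τ = ρ := by
  set f := algebraMap L (AlgebraicClosure L)
  haveI : CharP (AlgebraicClosure L) p := charP_of_injective_algebraMap f.injective p
  let ι := GeneralLinearGroup.map (n := Fin n) f
  have hinj : Function.Injective ι := fun a b e =>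
    Units.ext (Matrix.map_injective f.injective (congrArg Units.val e))
  let m := QuotientGroup.map (Subgroup.center (GL (Fin n) L))
    (Subgroup.center (GL (Fin n) (AlgebraicClosure L))) ι (GeneralLinearGroup.map_center_le f)
  obtain ⟨τ, hτ⟩ := exists_lift_charP h hC hp (m.comp ρ)
  have hS : ∀ x, ∃ y : GL (Fin n) L, ∃ z ∈ Subgroup.center (GL (Fin n) (AlgebraicClosure L)),
      (y : GL (Fin n) L ⧸ Subgroup.center (GL (Fin n) L)) = ρ x ∧ τ x = ι y * z := by
    intro x
    obtain ⟨y, hy⟩ := QuotientGroup.mk_surjective (ρ x)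
    refine ⟨y, (ι y)⁻¹ * τ x, ?_, hy, by group⟩
    rw [← QuotientGroup.eq]
    have := DFunLike.congr_fun hτ x
    rw [MonoidHom.comp_apply, MonoidHom.comp_apply, ← hy] at this
    exact this.symm
  have hr : ∀ x, τ x ∈ ι.range := by
    intro x
    have hle : commutator (D.SteinbergCover K) ≤ ι.range.comap τ := by
      rw [commutator_def, Subgroup.commutator_le]
      intro a _ b _
      obtain ⟨y, z, hz, -, ey⟩ := hS a
      obtain ⟨y', z', hz', -, ey'⟩ := hS b
      rw [Subgroup.mem_comap, map_commutatorElement, ey, ey']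
      refine ⟨⁅y, y'⁆, ?_⟩
      have hzc := Subgroup.mem_center_iff.1 hz
      have hzc' := Subgroup.mem_center_iff.1 hz'
      rw [map_commutatorElement]
      simp only [commutatorElement_def, _root_.mul_inv_rev]
      rw [show ι y * z * (ι y' * z') = ι y * (ι y' * z') * z by rw [mul_assoc, ← hzc]; group,
        show ι y * (ι y' * z') * z * (z⁻¹ * (ι y)⁻¹) * (z'⁻¹ * (ι y')⁻¹) =
          ι y * ι y' * (z' * (ι y)⁻¹) * z'⁻¹ * (ι y')⁻¹ by group, ← hzc']
      group
    exact hle (by rw [hperf]; trivial)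
  let e := MonoidHom.ofInjective hinj
  refine ⟨e.symm.toMonoidHom.comp (τ.codRestrict ι.range hr), MonoidHom.ext fun x => ?_⟩
  obtain ⟨y, z, hz, hy, ey⟩ := hS x
  set w := e.symm (⟨τ x, hr x⟩ : ι.range)
  have hw : ι w = τ x := congrArg Subtype.val (e.apply_symm_apply ⟨τ x, hr x⟩)
  show (w : GL (Fin n) L ⧸ Subgroup.center (GL (Fin n) L)) = ρ x
  rw [← hy, QuotientGroup.eq]
  refine scalar_center_comap f ?_
  show ι (w⁻¹ * y) ∈ _
  rw [map_mul, map_inv, hw, ey, _root_.mul_inv_rev, mul_assoc, inv_mul_cancel, mul_one]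
  exact inv_mem hz

end CfsgLib.Steinberg
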