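import Cfsg.Agent.Lib.Chev.Unip
import Cfsg.Agent.Lib.Chev.BN

/-!
Groups over a Chevalley group with lifts of the root elements: collection along a list of roots on one
side, and injectivity of the projection there.
-/

set_option autoImplicit false

namespace CfsgLib.Steinberg

open Cfsg.Lie Matrix CfsgLib.Chev

variable {D : ChevalleyDatum} {A : Aux} {F : Type*} [Field F]

/-- Lifts of the root elements along a homomorphism, additive on each root. -/
structure Pre (g : Good D A) (F : Type*) [Field F] (E : Type*) [Group E] where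
  π : E →* GL D.Idx F
  X : ℕ → F → E
  add : ∀ r < D.nroots, ∀ t u : F, X r t * X r u = X r (t + u)
  proj : ∀ r < D.nroots, ∀ t : F, π (X r t) = xG g r t

variable {g : Good D A} {E : Type*} [Group E]

namespace Pre

variable (P : Pre g F E)

/-- The lifted right hand side of the commutator formula. -/
noncomputable def W (r s : ℕ) (t u : F) : E := ((tword A r s t u).map fun p => P.X p.1 p.2).prod

/-- The commutator formula for a pair of roots. -/
def Rel (r s : ℕ) : Prop := ∀ t u : F, P.X s u * P.X r t = P.X r t * P.X s u * P.W r s t u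

/-- The subgroup of the lifts of the listed roots. -/
def XL (L : List ℕ) : Subgroup E := Subgroup.closure {y | ∃ r t, r ∈ L ∧ y = P.X r t}

/-- The ordered product of lifts. -/
def pX (L : List ℕ) (T : ℕ → F) : E := (L.map fun r => P.X r (T r)).prod

theorem zero {r : ℕ} (hr : r < D.nroots) : P.X r 0 = 1 := by
  have := P.add r hr 0 0
  rwa [add_zero, mul_eq_left] at this

theorem inv {r : ℕ} (hr : r < D.nroots) (t : F) : (P.X r t)⁻¹ = P.X r (-t) := by
  rw [inv_eq_iff_mul_eq_one, P.add r hr, add_neg_cancel, P.zero hr]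

theorem X_mem_XL {L : List ℕ} {r : ℕ} (hr : r ∈ L) (t : F) : P.X r t ∈ P.XL L :=
  Subgroup.subset_closure ⟨r, t, hr, rfl⟩

theorem W_mem_XL {L : List ℕ} {r s : ℕ} (hL : ∀ e ∈ A.terms r s, e.1 ∈ L) (t u : F) :
    P.W r s t u ∈ P.XL L := by
  refine list_prod_mem fun y hy => ?_
  obtain ⟨p, hp, rfl⟩ := List.mem_map.1 hy
  obtain ⟨e, he, rfl⟩ := List.mem_map.1 hp
  exact P.X_mem_XL (hL e he) _

/-- The commutator formula as a conjugation. -/
theorem conj_of_rel {r s : ℕ} (hr : r < D.nroots) (h : P.Rel r s) (t u : F) :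
    P.X r t * P.X s u * (P.X r t)⁻¹ = P.X s u * P.W r s (-t) u := by
  rw [P.inv hr, mul_assoc, h (-t) u, ← mul_assoc, ← mul_assoc, P.add r hr, add_neg_cancel,
    P.zero hr, one_mul]

theorem conj_mem {L L' : List ℕ} {r : ℕ} (hr : r < D.nroots) (t : F)
    (hrel : ∀ s ∈ L, ∀ u, P.X r t * P.X s u * (P.X r t)⁻¹ ∈ P.XL L') {y : E} (hy : y ∈ P.XL L) :
    P.X r t * y * (P.X r t)⁻¹ ∈ P.XL L' := by
  have : P.XL L ≤ (P.XL L').comap (MulAut.conj (P.X r t)).toMonoidHom := by
    refine (Subgroup.closure_le _).2 ?_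
    rintro _ ⟨s, u, hs, rfl⟩
    exact hrel s hs u
  exact this hy

end Pre

/-- A list of roots on one side, increasing in the code. -/
structure Sorted (D : ChevalleyDatum) (A : Aux) (ε : ℤ) (L : List ℕ) : Prop where
  sign : ε = 1 ∨ ε = -1
  side : ∀ r ∈ L, r < D.nroots ∧ 0 < ε * code D A r
  incr : L.Pairwise fun x y => ε * code D A x < ε * code D A y

theorem Sorted.tail {ε : ℤ} {x : ℕ} {L : List ℕ} (h : Sorted D A ε (x :: L)) : Sorted D A ε L :=
  ⟨h.sign, fun r hr => h.side r (List.mem_cons_of_mem _ hr), (List.pairwise_cons.1 h.incr).2⟩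

/-- The commutator formula holds within the list and its terms stay there. -/
def Closed (P : Pre g F E) (ε : ℤ) (L : List ℕ) : Prop :=
  ∀ x ∈ L, ∀ q ∈ L, ε * code D A x < ε * code D A q → P.Rel x q ∧ ∀ e ∈ A.terms x q, e.1 ∈ L

theorem term_code_lt (g : Good D A) {ε : ℤ} {x q : ℕ} (hx : x < D.nroots) (hq : q < D.nroots)
    (hxp : 0 < ε * code D A x) (hqp : 0 < ε * code D A q) {e : ℕ × ℤ × ℕ × ℕ}
    (he : e ∈ A.terms x q) :
    e.1 < D.nroots ∧ ε * code D A x < ε * code D A e.1 ∧ ε * code D A q < ε * code D A e.1 := by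
  obtain ⟨h1, h2, h3, h4⟩ := terms_mem g hx hq he
  have h2' : (1 : ℤ) ≤ (e.2.2.1 : ℤ) := by exact_mod_cast h2
  have h3' : (1 : ℤ) ≤ (e.2.2.2 : ℤ) := by exact_mod_cast h3
  refine ⟨h1, ?_, ?_⟩ <;> rw [code_lin (D := D) (A := A) _ _ h4] <;> nlinarith

theorem exists_pX (P : Pre g F E) {ε : ℤ} : ∀ {L : List ℕ}, Sorted D A ε L → Closed P ε L →
    ∀ {y : E}, y ∈ P.XL L → ∃ T, y = P.pX L T
  | [], _, _, y, hy => by
    have : P.XL [] = ⊥ := by simp [Pre.XL]
    rw [this, Subgroup.mem_bot] at hy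
    exact ⟨0, by simp [Pre.pX, hy]⟩
  | x :: L, hL, hC, y, hy => by
    obtain ⟨hxlt, hlt⟩ := List.pairwise_cons.1 hL.incr
    have hx := hL.side x List.mem_cons_self
    have hC' : Closed P ε L := by
      intro a ha b hb hab
      obtain ⟨hr, hm⟩ := hC a (List.mem_cons_of_mem _ ha) b (List.mem_cons_of_mem _ hb) hab
      refine ⟨hr, fun e he => (List.mem_cons.1 (hm e he)).resolve_left fun hex => ?_⟩
      have h1 := (term_code_lt g (hL.tail.side a ha).1 (hL.tail.side b hb).1 (hL.tail.side a ha).2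
        (hL.tail.side b hb).2 he).2.1
      have h2 := hxlt a ha
      rw [hex] at h1
      omega
    have hnorm : ∀ t : F, ∀ z ∈ P.XL L, P.X x t * z * (P.X x t)⁻¹ ∈ P.XL L := by
      intro t z hz
      refine P.conj_mem hx.1 t (fun q hq u => ?_) hz
      obtain ⟨hr, hm⟩ := hC x List.mem_cons_self q (List.mem_cons_of_mem _ hq) (hxlt q hq)
      rw [P.conj_of_rel hx.1 hr]
      refine mul_mem (P.X_mem_XL hq u) (P.W_mem_XL (fun e he => ?_) _ _)
      refine (List.mem_cons.1 (hm e he)).resolve_left fun hex => ?_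
      have h1 := (term_code_lt g hx.1 (hL.tail.side q hq).1 hx.2 (hL.tail.side q hq).2 he).2.1
      rw [hex] at h1
      omega
    obtain ⟨t, v, hv, rfl⟩ : ∃ t, ∃ v ∈ P.XL L, y = P.X x t * v := by
      induction hy using Subgroup.closure_induction with
      | one => exact ⟨0, 1, one_mem _, by simp [P.zero hx.1]⟩
      | mul a b _ _ ha hb =>
        obtain ⟨t, v, hv, rfl⟩ := ha
        obtain ⟨u, w, hw, rfl⟩ := hb
        refine ⟨t + u, (P.X x (-u) * v * (P.X x (-u))⁻¹) * w, mul_mem (hnorm (-u) v hv) hw, ?_⟩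
        rw [← P.add x hx.1, ← P.inv hx.1 u, inv_inv]
        group
      | inv a _ ha =>
        obtain ⟨t, v, hv, rfl⟩ := ha
        refine ⟨-t, P.X x t * v⁻¹ * (P.X x t)⁻¹, hnorm t _ (inv_mem hv), ?_⟩
        rw [← P.inv hx.1]
        group
      | mem a ha =>
        obtain ⟨q, w, hq, rfl⟩ := ha
        rcases List.mem_cons.1 hq with rfl | hq
        · exact ⟨w, 1, one_mem _, by simp⟩
        · exact ⟨0, _, P.X_mem_XL hq w, by simp [P.zero hx.1]⟩
    obtain ⟨T, rfl⟩ := exists_pX P hL.tail hC' hv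
    refine ⟨Function.update T x t, ?_⟩
    simp only [Pre.pX, List.map_cons, List.prod_cons, Function.update_self]
    congr 2
    refine List.map_congr_left fun r hr => ?_
    rw [Function.update_of_ne]
    intro e
    have := hxlt r hr
    rw [e] at this
    omega

theorem UL_le_triG_sign (g : Good D A) {ε : ℤ} {L : List ℕ} (hs : ε = 1 ∨ ε = -1) {b : ℤ} (hb : 0 ≤ b)
    (hn : ∀ r ∈ L, r < D.nroots ∧ b < ε * code D A r) :
    UL F g L ≤ triG (fun x => ε * wgt D A x) b hb := by
  refine (Subgroup.closure_le _).2 ?_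
  rintro y ⟨r, t, hr, rfl⟩
  exact xG_mem_triG g (hn r hr).1 t hs hb (hn r hr).2

/-- Ordered products with trivial image have trivial parameters. -/
theorem pw_eq_one (g : Good D A) {ε : ℤ} : ∀ {L : List ℕ}, Sorted D A ε L → ∀ {T : ℕ → F},
    pw g L T = 1 → ∀ r ∈ L, T r = 0
  | [], _, _, _, r, hr => by simp at hr
  | x :: L, hL, T, e, r, hr => by
    obtain ⟨hxlt, -⟩ := List.pairwise_cons.1 hL.incr
    have hx := hL.side x List.mem_cons_self
    have e1 : xG g x (T x) * pw g L T = 1 := by simpa [pw] using e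
    have hm : xG g x (T x) ∈ triG (fun z => ε * wgt D A z) (ε * code D A x) hx.2.le := by
      rw [eq_inv_of_mul_eq_one_left e1]
      exact UL_le_triG_sign g hL.sign hx.2.le (fun q hq => ⟨(hL.tail.side q hq).1, hxlt q hq⟩)
        (inv_mem (pw_mem_UL g L T))
    have h0 := eq_zero_of_mem_triG g hx.1 _ hx.2.le hm
    rcases List.mem_cons.1 hr with rfl | hr
    · exact h0
    · rw [h0, xG_zero, one_mul] at e1
      exact pw_eq_one g hL.tail e1 r hr

/-- The projection is injective on a closed side. -/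
theorem XL_eq_one (P : Pre g F E) {ε : ℤ} {L : List ℕ} (hL : Sorted D A ε L) (hC : Closed P ε L)
    {y : E} (hy : y ∈ P.XL L) (h1 : P.π y = 1) : y = 1 := by
  obtain ⟨T, rfl⟩ := exists_pX P hL hC hy
  have h2 : pw g L T = 1 := by
    rw [← h1, Pre.pX, map_list_prod, List.map_map, pw]
    refine congrArg List.prod (List.map_congr_left fun r hr => ?_)
    exact (P.proj r (hL.side r hr).1 (T r)).symm
  rw [Pre.pX, List.prod_eq_one]
  intro z hz
  obtain ⟨r, hr, rfl⟩ := List.mem_map.1 hz
  rw [pw_eq_one g hL h2 r hr, P.zero (hL.side r hr).1]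

theorem XL_inj (P : Pre g F E) {ε : ℤ} {L : List ℕ} (hL : Sorted D A ε L) (hC : Closed P ε L)
    {y z : E} (hy : y ∈ P.XL L) (hz : z ∈ P.XL L) (e : P.π y = P.π z) : y = z :=
  mul_inv_eq_one.1 (XL_eq_one P hL hC (mul_mem hy (inv_mem hz)) (by simp [e]))

/-- The list of roots on one side. -/
noncomputable def sideList (D : ChevalleyDatum) (A : Aux) (ε : ℤ) : List ℕ :=
  bif decide (ε = 1) then (List.range D.nroots).filter fun r => decide (0 < code D A r)
  else ((List.range D.nroots).filter fun r => decide (code D A r < 0)).reverse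

theorem mem_sideList {ε : ℤ} (hε : ε = 1 ∨ ε = -1) {r : ℕ} :
    r ∈ sideList D A ε ↔ r < D.nroots ∧ 0 < ε * code D A r := by
  rcases hε with rfl | rfl <;> simp [sideList]

theorem sideList_sorted (h : Std D A) {ε : ℤ} (hε : ε = 1 ∨ ε = -1) :
    Sorted D A ε (sideList D A ε) := by
  refine ⟨hε, fun r hr => (mem_sideList hε).1 hr, ?_⟩
  have key : ∀ p : ℕ → Bool, ((List.range D.nroots).filter p).Pairwise fun x y =>
      code D A x < code D A y := fun p => by
    refine ((List.pairwise_lt_range (n := D.nroots)).filter p).imp_of_mem ?_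
    intro a b _ hb hab
    exact code_mono h hab (List.mem_range.1 (List.mem_filter.1 hb).1)
  rcases hε with rfl | rfl
  · simpa [sideList] using key _
  · simp only [sideList, show decide ((-1 : ℤ) = 1) = false from rfl, cond_false,
      List.pairwise_reverse]
    exact (key _).imp fun hab => by omega

end CfsgLib.Steinberg
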