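import Cfsg.Agent.Lib.Steinberg.Collect

/-!
The action of the lifted rank one subgroups of the fundamental roots on the lifts of the root elements.
-/

set_option autoImplicit false

namespace CfsgLib.Steinberg

open Cfsg.Lie Matrix CfsgLib.Chev

variable {D : ChevalleyDatum} {A : Aux} {F : Type*} [Field F]

variable (D A) in
/-- roots on the side `ε` with a nonzero coordinate away from `i` -/
def But (ε : ℤ) (i r : ℕ) : Prop :=
  r < D.nroots ∧ (∀ j < D.rank, 0 ≤ ε * A.a r j) ∧ ∃ j < D.rank, j ≠ i ∧ A.a r j ≠ 0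

theorem But.code_pos (h : Std D A) {ε : ℤ} (hε : ε = 1 ∨ ε = -1) {i r : ℕ} (hr : But D A ε i r) :
    0 < ε * code D A r := by
  obtain ⟨hn, hs, -⟩ := hr
  rcases hε with rfl | rfl
  · rw [one_mul]
    refine CfsgLib.Chev.code_pos h hn fun j => ?_
    rcases lt_or_ge j D.rank with hj | hj
    · simpa using hs j hj
    · rw [h.good.a_zero r hn j hj]
  · have h1 := CfsgLib.Chev.code_pos h (h.good.neg_lt r hn) fun j => by
      rw [h.good.a_neg r hn j]
      rcases lt_or_ge j D.rank with hj | hj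
      · simpa using hs j hj
      · rw [h.good.a_zero r hn j hj]; rfl
    have h2 : code D A (A.neg r) = (-1) * code D A r + 0 * code D A r :=
      code_lin _ _ fun j _ => by rw [h.good.a_neg r hn j]; ring
    linarith

theorem mem_But_or (h : Std D A) {i r : ℕ} (hi : i < D.rank) (hr : r < D.nroots)
    (h1 : r ≠ D.simple i) (h2 : r ≠ A.neg (D.simple i)) :
    But D A 1 i r ∨ But D A (-1) i r := by
  have g := h.good
  have hp := g.simple_lt i hi
  obtain ⟨j, hj, hji, hj0⟩ : ∃ j < D.rank, j ≠ i ∧ A.a r j ≠ 0 := by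
    by_contra hcon
    push Not at hcon
    rcases thin_spec h hr hi hcon with h' | h'
    · refine h1 (g.a_inj r hr _ hp fun k hk => ?_)
      rw [g.a_simple i hi k hk]
      split_ifs with e
      · rw [e, h']
      · exact hcon k hk e
    · refine h2 (g.a_inj r hr _ (g.neg_lt _ hp) fun k hk => ?_)
      rw [g.a_neg _ hp, g.a_simple i hi k hk]
      split_ifs with e
      · rw [e, h']
      · rw [hcon k hk e, neg_zero]
  rcases g.pos_or_neg r hr with hs | hs
  · exact Or.inl ⟨hr, fun k _ => by simpa using hs k, j, hj, hji, hj0⟩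
  · exact Or.inr ⟨hr, fun k _ => by simpa using hs k, j, hj, hji, hj0⟩

/-- a positive combination with a root of `But` stays in `But` -/
theorem But.comb (g : Good D A) {ε : ℤ} (hε : ε = 1 ∨ ε = -1) {i r s u m k : ℕ} (hs : But D A ε i s)
    (hu : u < D.nroots) (hk : 1 ≤ k) (hr0 : ∀ j < D.rank, j ≠ i → 0 ≤ ε * A.a r j)
    (e : ∀ j < D.rank, A.a u j = (m : ℤ) * A.a r j + (k : ℤ) * A.a s j) : But D A ε i u := by
  obtain ⟨-, hsgn, j, hj, hji, hj0⟩ := hs
  have h1 : 0 < ε * A.a s j := lt_of_le_of_ne (hsgn j hj) (by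
    intro e; rcases hε with rfl | rfl <;> omega)
  have h2 : 0 < ε * A.a u j := by
    rw [e j hj]
    have h3 := hr0 j hj hji
    have hk' : (1 : ℤ) ≤ (k : ℤ) := by exact_mod_cast hk
    nlinarith [mul_nonneg (Int.natCast_nonneg m) h3]
  refine ⟨hu, fun l _ => ?_, j, hj, hji, fun h0 => by rw [h0, mul_zero] at h2; omega⟩
  rcases g.pos_or_neg u hu with hp | hp <;> have := hp j <;> have := hp l <;>
    rcases hε with rfl | rfl <;> omega

/-- the list of `But ε i` in increasing order -/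
noncomputable def butList (D : ChevalleyDatum) (A : Aux) (ε : ℤ) (i : ℕ) : List ℕ := by
  classical exact (sideList D A ε).filter fun r => decide (But D A ε i r)

theorem mem_butList (h : Std D A) {ε : ℤ} (hε : ε = 1 ∨ ε = -1) {i r : ℕ} :
    r ∈ butList D A ε i ↔ But D A ε i r := by
  classical
  simp only [butList, List.mem_filter, decide_eq_true_eq, mem_sideList hε]
  exact ⟨fun h => h.2, fun hr => ⟨⟨hr.1, hr.code_pos h hε⟩, hr⟩⟩

theorem butList_sorted (h : Std D A) {ε : ℤ} (hε : ε = 1 ∨ ε = -1) (i : ℕ) :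
    Sorted D A ε (butList D A ε i) := by
  classical
  have hs := sideList_sorted (D := D) (A := A) h hε
  exact ⟨hε, fun r hr => hs.side r (List.mem_filter.1 hr).1, hs.incr.filter _⟩

variable {g : Good D A} {E : Type*} [Group E]

/-- the commutator formula holds for all admissible pairs -/
def IsSt (P : Pre g F E) : Prop :=
  ∀ r < D.nroots, ∀ s < D.nroots, s ≠ r → s ≠ A.neg r → P.Rel r s

theorem closed_butList (h : Std D A) {P : Pre h.good F E} (hP : IsSt P) {ε : ℤ}
    (hε : ε = 1 ∨ ε = -1) (i : ℕ) : Closed P ε (butList D A ε i) := by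
  intro x hx q hq hxq
  rw [mem_butList h hε] at hx hq
  refine ⟨hP x hx.1 q hq.1 (fun e => by subst e; omega) (fun e => ?_), fun t ht => ?_⟩
  · have h2 : code D A q = (-1) * code D A x + 0 * code D A x :=
      code_lin _ _ fun j _ => by rw [e, h.good.a_neg x hx.1 j]; ring
    have := hx.code_pos h hε
    have := hq.code_pos h hε
    rw [h2] at this
    linarith
  · rw [mem_butList h hε]
    obtain ⟨h1, -, h3, h4⟩ := terms_mem h.good hx.1 hq.1 ht
    exact hq.comb h.good hε h1 h3 (fun j hj _ => hx.2.1 j hj) h4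

/-- the lifted rank one subgroup -/
def Rk1 (P : Pre g F E) (i : ℕ) : Subgroup E :=
  Subgroup.closure {y | ∃ t, y = P.X (D.simple i) t ∨ y = P.X (A.neg (D.simple i)) t}

theorem X_simple_mem_rk1 (P : Pre g F E) (i : ℕ) (t : F) : P.X (D.simple i) t ∈ Rk1 P i :=
  Subgroup.subset_closure ⟨t, Or.inl rfl⟩

theorem X_negSimple_mem_rk1 (P : Pre g F E) (i : ℕ) (t : F) :
    P.X (A.neg (D.simple i)) t ∈ Rk1 P i :=
  Subgroup.subset_closure ⟨t, Or.inr rfl⟩

theorem rk1_conj_mem (h : Std D A) {P : Pre h.good F E} (hP : IsSt P) {ε : ℤ}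
    (hε : ε = 1 ∨ ε = -1) {i : ℕ} (hi : i < D.rank) {y : E} (hy : y ∈ Rk1 P i) :
    ∀ {z : E}, z ∈ P.XL (butList D A ε i) → y * z * y⁻¹ ∈ P.XL (butList D A ε i) := by
  have g := h.good
  have hp := g.simple_lt i hi
  have key : ∀ p, p = D.simple i ∨ p = A.neg (D.simple i) → ∀ (t : F) (z : E),
      z ∈ P.XL (butList D A ε i) → P.X p t * z * (P.X p t)⁻¹ ∈ P.XL (butList D A ε i) := by
    intro p hpp t z hz
    have hpn : p < D.nroots ∧ ∀ j < D.rank, j ≠ i → A.a p j = 0 := by
      rcases hpp with rfl | rfl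
      · exact ⟨hp, fun j hj hji => by rw [g.a_simple i hi j hj, if_neg hji]⟩
      · exact ⟨g.neg_lt _ hp, fun j hj hji => by
          rw [g.a_neg _ hp, g.a_simple i hi j hj, if_neg hji, neg_zero]⟩
    refine P.conj_mem hpn.1 t (fun s hs u => ?_) hz
    rw [mem_butList h hε] at hs
    obtain ⟨k, hk, hki, hk0⟩ := hs.2.2
    have hne : s ≠ p ∧ s ≠ A.neg p :=
      ⟨fun e => hk0 (e ▸ hpn.2 k hk hki), fun e => hk0 (by
        rw [e, g.a_neg p hpn.1, hpn.2 k hk hki, neg_zero])⟩
    rw [P.conj_of_rel hpn.1 (hP p hpn.1 s hs.1 hne.1 hne.2)]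
    refine mul_mem (P.X_mem_XL ((mem_butList h hε).2 hs) u) (P.W_mem_XL (fun e he => ?_) _ _)
    rw [mem_butList h hε]
    obtain ⟨h1, -, h3, h4⟩ := terms_mem g hpn.1 hs.1 he
    exact hs.comb g hε h1 h3 (fun j hj hji => by simp [hpn.2 j hj hji]) h4
  induction hy using Subgroup.closure_induction_left with
  | one => intro z hz; simpa using hz
  | mul_left a ha b _ ih =>
    intro z hz
    rw [show a * b * z * (a * b)⁻¹ = a * (b * z * b⁻¹) * a⁻¹ by group]
    obtain ⟨t, rfl | rfl⟩ := ha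
    · exact key _ (Or.inl rfl) t _ (ih hz)
    · exact key _ (Or.inr rfl) t _ (ih hz)
  | inv_mul_cancel a ha b _ ih =>
    intro z hz
    rw [show a⁻¹ * b * z * (a⁻¹ * b)⁻¹ = a⁻¹ * (b * z * b⁻¹) * a⁻¹⁻¹ by group]
    obtain ⟨t, rfl | rfl⟩ := ha
    · rw [P.inv hp]; exact key _ (Or.inl rfl) (-t) _ (ih hz)
    · rw [P.inv (g.neg_lt _ hp)]; exact key _ (Or.inr rfl) (-t) _ (ih hz)

/-- conjugation by `y` maps each lifted root element to one of another root -/
def Moves (P : Pre g F E) (y : E) (σ : ℕ → ℕ) (k : ℕ → F) : Prop :=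
  ∀ r < D.nroots, ∀ u, y * P.X r u * y⁻¹ = P.X (σ r) (k r * u)

theorem prod_map_cancel {α G : Type*} [Group G] {p : α → Bool} {L : List α} {f f' : α → G} {e : α}
    (hfil : L.filter p = [e]) (hn : ∀ x ∈ L, p x = false → f x = f' x)
    (heq : (L.map f).prod = (L.map f').prod) : f e = f' e := by
  obtain ⟨l₁, l₂, rfl, h₁, -, h₂⟩ := List.filter_eq_cons_iff.1 hfil
  have e1 : l₁.map f = l₁.map f' := List.map_congr_left fun x hx =>
    hn x (List.mem_append_left _ hx) (Bool.eq_false_iff.2 (h₁ x hx))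
  have e2 : l₂.map f = l₂.map f' := List.map_congr_left fun x hx =>
    hn x (List.mem_append_right _ (List.mem_cons_of_mem _ hx))
      (Bool.eq_false_iff.2 (List.filter_eq_nil_iff.1 h₂ x hx))
  simp only [List.map_append, List.map_cons, List.prod_append, List.prod_cons, e1, e2] at heq
  exact mul_right_cancel (mul_left_cancel heq)

variable (A) in
/-- the pair writes `p` as its only term on `±p`, with unit coefficient and linearly in one parameter -/
noncomputable def pairChk (D : ChevalleyDatum) (p r s : ℕ) : Bool :=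
  decide (r ≠ p ∧ r ≠ A.neg p ∧ s ≠ p ∧ s ≠ A.neg p ∧ s ≠ r ∧ s ≠ A.neg r ∧ r < D.nroots ∧
    s < D.nroots) &&
  match (A.terms r s).filter (fun e => decide (e.1 = p ∨ e.1 = A.neg p)) with
  | [e] => decide (e.1 = p ∧ e.2.1.natAbs = 1 ∧ (e.2.2.1 = 1 ∨ e.2.2.2 = 1))
  | _ => false

variable (D A) in
/-- every root supported on one node is a term of a pair away from it -/
noncomputable def splitChk : Bool :=
  (List.range D.rank).all fun i => [D.simple i, A.neg (D.simple i)].all fun p =>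
    (List.range D.nroots).any fun s => (List.range D.rank).any fun m =>
      [D.simple m, A.neg (D.simple m)].any fun r => pairChk A D p r s || pairChk A D p s r

theorem exists_split (hC : splitChk D A = true) {i : ℕ} (hi : i < D.rank) {p : ℕ}
    (hp : p = D.simple i ∨ p = A.neg (D.simple i)) : ∃ r s, pairChk A D p r s = true := by
  simp only [splitChk, List.all_eq_true, List.any_eq_true, List.mem_range, Bool.or_eq_true] at hC
  obtain ⟨s, -, m, -, r, -, h⟩ := hC i hi p (by simpa using hp)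
  rcases h with h | h
  exacts [⟨r, s, h⟩, ⟨s, r, h⟩]

/-- an element of the lifted rank one subgroup moves the root elements as its image does -/
theorem moves_of_proj (h : Std D A) {P : Pre h.good F E} (hP : IsSt P) (hC : splitChk D A = true)
    {i : ℕ} (hi : i < D.rank) {y : E} (hy : y ∈ Rk1 P i) {σ : ℕ → ℕ} {k : ℕ → F}
    {m : ℕ × ℤ × ℕ × ℕ → ℕ → ℕ → ℤ}
    (hπ : ∀ r < D.nroots, ∀ u, P.π y * xG h.good r u * (P.π y)⁻¹ = xG h.good (σ r) (k r * u))
    (hσlt : ∀ r < D.nroots, σ r < D.nroots)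
    (hσa : ∀ r < D.nroots, ∀ j < D.rank, j ≠ i → A.a (σ r) j = A.a r j)
    (hσinj : ∀ r < D.nroots, ∀ s < D.nroots, σ r = σ s → r = s)
    (hσneg : ∀ r < D.nroots, σ (A.neg r) = A.neg (σ r))
    (hterms : ∀ r < D.nroots, ∀ s < D.nroots,
      A.terms (σ r) (σ s) = (A.terms r s).map fun e => (σ e.1, m e r s, e.2.2.1, e.2.2.2))
    (hk : ∀ r < D.nroots, ∀ s < D.nroots, ∀ e ∈ A.terms r s,
      (m e r s : F) * k r ^ e.2.2.1 * k s ^ e.2.2.2 = k e.1 * (e.2.1 : F)) :
    Moves P y σ k := by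
  have g := h.good
  have hp := g.simple_lt i hi
  have hout : ∀ r < D.nroots, r ≠ D.simple i → r ≠ A.neg (D.simple i) → ∀ u,
      y * P.X r u * y⁻¹ = P.X (σ r) (k r * u) := by
    intro r hr h1 h2 u
    obtain ⟨ε, hε, hbut⟩ : ∃ ε : ℤ, (ε = 1 ∨ ε = -1) ∧ But D A ε i r := by
      rcases mem_But_or h hi hr h1 h2 with h' | h'
      exacts [⟨1, Or.inl rfl, h'⟩, ⟨-1, Or.inr rfl, h'⟩]
    have hbut' : But D A ε i (σ r) := by
      obtain ⟨-, hsgn, j, hj, hji, hj0⟩ := hbut
      refine ⟨hσlt r hr, fun l hl => ?_, j, hj, hji, by rwa [hσa r hr j hj hji]⟩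
      have h3 := hσa r hr j hj hji
      have h4 := hsgn j hj
      rcases g.pos_or_neg _ (hσlt r hr) with hs | hs <;> have := hs j <;> have := hs l <;>
        rcases hε with rfl | rfl <;> omega
    refine XL_inj P (butList_sorted h hε i) (closed_butList h hP hε i)
      (rk1_conj_mem h hP hε hi hy (P.X_mem_XL ((mem_butList h hε).2 hbut) u))
      (P.X_mem_XL ((mem_butList h hε).2 hbut') _) ?_
    rw [map_mul, map_mul, map_inv, P.proj r hr, P.proj _ (hσlt r hr), hπ r hr]
  intro p hpn u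
  by_cases h12 : p ≠ D.simple i ∧ p ≠ A.neg (D.simple i)
  · exact hout p hpn h12.1 h12.2 u
  have hpp : p = D.simple i ∨ p = A.neg (D.simple i) := by tauto
  obtain ⟨r, s, hrs⟩ := exists_split hC hi hpp
  rw [pairChk, Bool.and_eq_true, decide_eq_true_eq] at hrs
  obtain ⟨⟨hr1, hr2, hs1, hs2, hsr, hsn, hr, hs⟩, hm⟩ := hrs
  split at hm
  case _ e hfil =>
    rw [decide_eq_true_eq] at hm
    obtain ⟨he1, hec, hedeg⟩ := hm
    have hS : ∀ x, (x = p ∨ x = A.neg p) ↔ (x = D.simple i ∨ x = A.neg (D.simple i)) := by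
      intro x
      rcases hpp with rfl | rfl
      · exact Iff.rfl
      · rw [g.neg_neg _ hp]; exact or_comm
    have hemem : e ∈ A.terms r s := (List.mem_filter.1 (hfil ▸ List.mem_singleton_self e)).1
    have hir : r ≠ D.simple i ∧ r ≠ A.neg (D.simple i) := by
      rw [← not_or, ← hS]; tauto
    have his : s ≠ D.simple i ∧ s ≠ A.neg (D.simple i) := by
      rw [← not_or, ← hS]; tauto
    have key : ∀ t w : F, y * P.X e.1 ((e.2.1 : F) * (-t) ^ e.2.2.1 * w ^ e.2.2.2) * y⁻¹ =
        P.X (σ e.1) (k e.1 * ((e.2.1 : F) * (-t) ^ e.2.2.1 * w ^ e.2.2.2)) := by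
      intro t w
      have hrel := congrArg (fun z => y * z * y⁻¹) (hP r hr s hs hsr hsn t w)
      have hrel' := hP (σ r) (hσlt r hr) (σ s) (hσlt s hs) (fun e => hsr (hσinj s hs r hr e))
        (fun e => hsn (hσinj s hs _ (g.neg_lt r hr) (by rw [e, hσneg r hr]))) (k r * t) (k s * w)
      rw [show y * (P.X s w * P.X r t) * y⁻¹ = (y * P.X s w * y⁻¹) * (y * P.X r t * y⁻¹) by group,
        show y * (P.X r t * P.X s w * P.W r s t w) * y⁻¹ =
          (y * P.X r t * y⁻¹) * (y * P.X s w * y⁻¹) * (y * P.W r s t w * y⁻¹) by group,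
        hout r hr hir.1 hir.2, hout s hs his.1 his.2, hrel', mul_right_inj] at hrel
      have hW : y * P.W r s t w * y⁻¹ = ((A.terms r s).map fun x =>
          y * P.X x.1 ((x.2.1 : F) * (-t) ^ x.2.2.1 * w ^ x.2.2.2) * y⁻¹).prod := by
        rw [Pre.W, tword, List.map_map, ← MulAut.conj_apply, map_list_prod, List.map_map]
        rfl
      rw [hW, Pre.W, tword, hterms r hr s hs, List.map_map, List.map_map] at hrel
      have hpar : ∀ x ∈ A.terms r s, (m x r s : F) * (-(k r * t)) ^ x.2.2.1 * (k s * w) ^ x.2.2.2 =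
          k x.1 * ((x.2.1 : F) * (-t) ^ x.2.2.1 * w ^ x.2.2.2) := by
        intro x hx
        rw [← mul_neg, mul_pow, mul_pow]
        linear_combination (-t) ^ x.2.2.1 * w ^ x.2.2.2 * hk r hr s hs x hx
      refine (prod_map_cancel hfil (fun x hx hxp => ?_) hrel).symm.trans ?_
      · simp only [decide_eq_false_iff_not, hS, not_or] at hxp
        simp only [Function.comp_def]
        rw [hout x.1 (terms_mem g hr hs hx).1 hxp.1 hxp.2, hpar x hx]
      · simp only [Function.comp_def]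
        rw [hpar e hemem]
    have hc : (e.2.1 : F) * (e.2.1 : F) = 1 := by
      rw [← Int.cast_mul, ← Int.natAbs_mul_self, hec, Nat.cast_one, Int.cast_one]
    obtain ⟨t, w, htw⟩ : ∃ t w : F, (e.2.1 : F) * (-t) ^ e.2.2.1 * w ^ e.2.2.2 = u := by
      rcases hedeg with h' | h'
      · exact ⟨-((e.2.1 : F) * u), 1, by rw [h', neg_neg, one_pow, pow_one, mul_one, ← mul_assoc, hc, one_mul]⟩
      · exact ⟨-1, (e.2.1 : F) * u, by rw [h', neg_neg, one_pow, pow_one, mul_one, ← mul_assoc, hc, one_mul]⟩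
    have := key t w
    rwa [htw, he1] at this
  case _ => simp at hm

/-- the lift of `n_i(c)` -/
noncomputable def NN (P : Pre g F E) (i : ℕ) (c : F) : E :=
  P.X (D.simple i) c * P.X (A.neg (D.simple i)) (-c⁻¹) * P.X (D.simple i) c

/-- the lift of `h_i(c)` -/
noncomputable def HH (P : Pre g F E) (i : ℕ) (c : F) : E := NN P i c * NN P i (-1)

theorem NN_mem_rk1 (P : Pre g F E) (i : ℕ) (c : F) : NN P i c ∈ Rk1 P i :=
  mul_mem (mul_mem (X_simple_mem_rk1 P i c) (X_negSimple_mem_rk1 P i _)) (X_simple_mem_rk1 P i c)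

theorem HH_mem_rk1 (P : Pre g F E) (i : ℕ) (c : F) : HH P i c ∈ Rk1 P i :=
  mul_mem (NN_mem_rk1 P i c) (NN_mem_rk1 P i (-1))

theorem NN_neg (P : Pre g F E) {i : ℕ} (hi : i < D.rank) (c : F) :
    NN P i (-c) = (NN P i c)⁻¹ := by
  have hp := g.simple_lt i hi
  simp only [NN, inv_neg, neg_neg, _root_.mul_inv_rev, P.inv hp, P.inv (g.neg_lt _ hp), mul_assoc]

theorem HH_neg_one (P : Pre g F E) (i : ℕ) : HH P i (-1 : F) = NN P i (-1) * NN P i (-1) := rfl

theorem NN_eq (P : Pre g F E) {i : ℕ} (hi : i < D.rank) (c : F) :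
    NN P i c = HH P i c * NN P i 1 := by
  rw [HH, NN_neg P hi, inv_mul_cancel_right]

theorem π_NN (P : Pre g F E) {i : ℕ} (hi : i < D.rank) (c : F) :
    P.π (NN P i c) = nG g (D.simple i) c := by
  have hp := g.simple_lt i hi
  simp only [NN, nG, map_mul, P.proj _ hp, P.proj _ (g.neg_lt _ hp), g.neg_eq _ hp]

theorem π_HH (P : Pre g F E) {i : ℕ} (hi : i < D.rank) (c : F) :
    P.π (HH P i c) = hG g (D.simple i) c := by
  rw [HH, hG, map_mul, π_NN P hi, π_NN P hi]

theorem moves_NN (h : Std D A) {P : Pre h.good F E} (hP : IsSt P) (hC : splitChk D A = true)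
    {i : ℕ} (hi : i < D.rank) :
    Moves P (NN P i 1) (A.refl i) (fun r => (A.eta i r : F)) := by
  have g := h.good
  refine moves_of_proj h hP hC hi (NN_mem_rk1 P i 1)
    (m := fun e r s => e.2.1 * (A.eta i e.1 * A.eta i r ^ e.2.2.1 * A.eta i s ^ e.2.2.2))
    (fun r hr u => by rw [π_NN P hi]; exact nS_conj_xG h.good hi hr u)
    (g.refl_lt i hi) (fun r hr j hj hji => by rw [g.a_refl i hi r hr j hj, if_neg hji, sub_zero])
    (fun r hr s hs e => refl_inj g hi hr hs e) (g.refl_neg i hi) (fun r hr s hs => terms_refl g hi hr hs)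
    (fun r hr s hs e he => ?_)
  have sq : ∀ u < D.nroots, ∀ d : ℕ, ((A.eta i u : F) ^ d) * (A.eta i u : F) ^ d = 1 := fun u hu d => by
    rw [← mul_pow, eta_sq g hi hu, one_pow]
  push_cast
  linear_combination (A.eta i e.1 : F) * (e.2.1 : F) * sq r hr e.2.2.1 +
    (A.eta i e.1 : F) * (e.2.1 : F) * (A.eta i r : F) ^ e.2.2.1 * (A.eta i r : F) ^ e.2.2.1 *
      sq s hs e.2.2.2

theorem chi_term (g : Good D A) (c : Fin D.rank → Fˣ) {r s : ℕ} (hr : r < D.nroots) (hs : s < D.nroots)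
    {e : ℕ × ℤ × ℕ × ℕ} (he : e ∈ A.terms r s) :
    chi D A c e.1 = chi D A c r ^ e.2.2.1 * chi D A c s ^ e.2.2.2 := by
  obtain ⟨h1, -, -, h4⟩ := terms_mem g hr hs he
  rw [chi_eq_wt g c h1, chi_eq_wt g c hr, chi_eq_wt g c hs, wt, wt, wt, ← Finset.prod_pow,
    ← Finset.prod_pow, ← Finset.prod_mul_distrib]
  refine Finset.prod_congr rfl fun j hj => ?_
  rw [h4 j (Finset.mem_range.1 hj), _root_.zpow_add, mul_comm (e.2.2.1 : ℤ), mul_comm (e.2.2.2 : ℤ),
    _root_.zpow_mul, _root_.zpow_mul, zpow_natCast, zpow_natCast]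

theorem moves_HH (h : Std D A) {P : Pre h.good F E} (hP : IsSt P) (hC : splitChk D A = true)
    (i : Fin D.rank) (t : Fˣ) :
    Moves P (HH P i (t : F)) id (fun r => (chi D A (Pi.mulSingle i t) r : F)) := by
  have g := h.good
  refine moves_of_proj h hP hC i.isLt (HH_mem_rk1 P i _)
    (m := fun e _ _ => e.2.1)
    (fun r hr u => by rw [π_HH P i.isLt, hG_simple h.good i t]; exact tor_conj_xG h.good _ hr u)
    (fun r hr => hr) (fun r hr j hj hji => rfl) (fun r hr s hs e => e) (fun r hr => rfl)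
    (fun r hr s hs => by simp) (fun r hr s hs e he => ?_)
  rw [chi_term g _ hr hs he, Units.val_mul, Units.val_pow_eq_pow_val, Units.val_pow_eq_pow_val]
  ring

end CfsgLib.Steinberg
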