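import Cfsg.Agent.Lib.Steinberg.Presented
import Cfsg.Agent.Lib.Chev.Weyl

/-!
Lifts of the root elements in a central extension: the commutator formula follows once the additive
defects vanish and the lifts are permuted by the `n_i`.
-/

set_option autoImplicit false

namespace CfsgLib.Steinberg

open Cfsg.Lie Matrix CfsgLib.Chev

variable {D : ChevalleyDatum} {A : Aux} {F : Type*} [Field F] {g : Good D A} {h : Std D A}
variable {G₀ : Type*} [Group G₀] {X : Type*} [Group X]

/-- Additive lifts of the root elements along a central extension. -/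
structure LiftData (P₀ : Pre g F G₀) (p : X →* G₀) where
  ψ : ℕ → F → X
  central : p.ker ≤ Subgroup.center X
  lift : ∀ r < D.nroots, ∀ t, p (ψ r t) = P₀.X r t
  add : ∀ r < D.nroots, ∀ t u, ψ r t * ψ r u = ψ r (t + u)

variable {P₀ : Pre g F G₀} {p : X →* G₀}

namespace LiftData

variable (L : LiftData P₀ p)

/-- the lifts as root elements of the extension -/
noncomputable def pre : Pre g F X where
  π := P₀.π.comp p
  X := L.ψ
  add := L.add
  proj r hr t := by rw [MonoidHom.comp_apply, L.lift r hr, P₀.proj r hr]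

@[simp] theorem pre_X (r : ℕ) (t : F) : L.pre.X r t = L.ψ r t := rfl

theorem p_W {r s : ℕ} (hr : r < D.nroots) (hs : s < D.nroots) (t u : F) :
    p (L.pre.W r s t u) = P₀.W r s t u := by
  rw [Pre.W, Pre.W, map_list_prod, List.map_map]
  refine congrArg List.prod (List.map_congr_left fun q hq => ?_)
  obtain ⟨e, he, rfl⟩ := List.mem_map.1 hq
  exact L.lift _ (terms_mem g hr hs he).1 _

/-- the error in the commutator formula -/
noncomputable def defect (r s : ℕ) (t u : F) : X :=
  (L.ψ r t * L.ψ s u * L.pre.W r s t u)⁻¹ * (L.ψ s u * L.ψ r t)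

theorem rel_iff {r s : ℕ} : L.pre.Rel r s ↔ ∀ t u, L.defect r s t u = 1 := by
  constructor
  · intro hr t u; rw [defect, inv_mul_eq_one]; exact (hr t u).symm
  · intro hr t u; exact (inv_mul_eq_one.1 (hr t u)).symm

theorem p_defect (hd : Data h P₀) {r s : ℕ} (hr : r < D.nroots) (hs : s < D.nroots) (hsr : s ≠ r)
    (hsn : s ≠ A.neg r) (t u : F) : p (L.defect r s t u) = 1 := by
  rw [defect, map_mul, map_inv, map_mul, map_mul, map_mul, L.p_W hr hs, L.lift r hr, L.lift s hs,
    inv_mul_eq_one]
  exact (hd.st r hr s hs hsr hsn t u).symm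

theorem defect_central (hd : Data h P₀) {r s : ℕ} (hr : r < D.nroots) (hs : s < D.nroots)
    (hsr : s ≠ r) (hsn : s ≠ A.neg r) (t u : F) (y : X) :
    Commute (L.defect r s t u) y :=
  (Subgroup.mem_center_iff.1 (L.central (L.p_defect hd hr hs hsr hsn t u)) y).symm

/-- the defects of a pair that are additive in the second parameter vanish -/
def KillAt (r s : ℕ) : Prop :=
  ∀ t, (∀ u v, L.defect r s t (u + v) = L.defect r s t u * L.defect r s t v) →
    ∀ u, L.defect r s t u = 1

/-- the defects additive in the second parameter vanish, for one of the two orders of each pair -/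
def Kill : Prop :=
  ∀ r < D.nroots, ∀ s < D.nroots, s ≠ r → s ≠ A.neg r → L.KillAt r s ∨ L.KillAt s r

theorem ne_neg_of_side (h : Std D A) {ε : ℤ} {r s : ℕ} (hr : r < D.nroots) (hrp : 0 < ε * code D A r)
    (hsp : 0 < ε * code D A s) : s ≠ A.neg r := by
  intro e
  rw [e, CfsgLib.Chev.code_neg h.good hr, mul_neg] at hsp
  omega

/-- the formula on one side -/
theorem rel_side (hd : Data h P₀) (hkill : L.Kill) {ε : ℤ} (hε : ε = 1 ∨ ε = -1) :
    ∀ r < D.nroots, ∀ s < D.nroots, s ≠ r → 0 < ε * code D A r → 0 < ε * code D A s →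
      L.pre.Rel r s := by
  classical
  set B : ℤ := 2 * ∑ q ∈ Finset.range D.nroots, |code D A q|
  have hB : ∀ r < D.nroots, ∀ s < D.nroots, ε * code D A r + ε * code D A s ≤ B := by
    have hb : ∀ r < D.nroots, ε * code D A r ≤ ∑ q ∈ Finset.range D.nroots, |code D A q| := by
      intro r hr
      refine le_trans ?_ (Finset.single_le_sum (fun q _ => abs_nonneg (code D A q)) (Finset.mem_range.2 hr))
      rcases hε with rfl | rfl <;> simp [le_abs_self, neg_le_abs]
    intro r hr s hs
    have := hb r hr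
    have := hb s hs
    omega
  suffices ∀ (d : ℕ), ∀ r < D.nroots, ∀ s < D.nroots, s ≠ r → 0 < ε * code D A r →
      0 < ε * code D A s → (B - (ε * code D A r + ε * code D A s)).toNat = d → L.pre.Rel r s from
    fun r hr s hs hsr h1 h2 => this _ r hr s hs hsr h1 h2 rfl
  intro d
  induction d using Nat.strong_induction_on with
  | _ d ih =>
  suffices main : ∀ r < D.nroots, ∀ s < D.nroots, s ≠ r → 0 < ε * code D A r → 0 < ε * code D A s →
      (B - (ε * code D A r + ε * code D A s)).toNat = d →
        ((L.KillAt r s → L.pre.Rel r s) ∧ (L.pre.Rel s r → L.pre.Rel r s)) by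
    intro r hr s hs hsr hrp hsp hd'
    rcases hkill r hr s hs hsr (ne_neg_of_side h hr hrp hsp) with hk | hk
    · exact (main r hr s hs hsr hrp hsp hd').1 hk
    · exact (main r hr s hs hsr hrp hsp hd').2
        ((main s hs r hr hsr.symm hsp hrp (by rw [add_comm]; exact hd')).1 hk)
  intro r hr s hs hsr hrp hsp hd'
  set M := max (ε * code D A r) (ε * code D A s)
  set K := (sideList D A ε).filter fun x => decide (x = s ∨ M < ε * code D A x)
  have hmem : ∀ x, x ∈ K ↔ (x < D.nroots ∧ 0 < ε * code D A x) ∧ (x = s ∨ M < ε * code D A x) :=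
    fun x => by simp [K, mem_sideList hε]
  have hK : Sorted D A ε K :=
    ⟨hε, fun x hx => ((hmem x).1 hx).1, (sideList_sorted h hε).incr.filter _⟩
  have hC : Closed L.pre ε K := by
    intro x hx q hq hxq
    rw [hmem] at hx hq
    have hbig : ε * code D A r + ε * code D A s < ε * code D A x + ε * code D A q := by
      have := hB
      rcases hx.2 with rfl | hx' <;> rcases hq.2 with rfl | hq' <;> omega
    have := hB x hx.1.1 q hq.1.1
    refine ⟨ih _ (by omega) x hx.1.1 q hq.1.1 (fun e => by subst e; omega) hx.1.2 hq.1.2 rfl,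
      fun e he => ?_⟩
    obtain ⟨h1, h2, h3⟩ := term_code_lt h.good hx.1.1 hq.1.1 hx.1.2 hq.1.2 he
    rw [hmem]
    exact ⟨⟨h1, by omega⟩, Or.inr (by rcases hq.2 with rfl | hq' <;> omega)⟩
  have hsn : s ≠ A.neg r := ne_neg_of_side h hr hrp hsp
  refine ⟨fun hk => ?_, fun hrev t u => ?_⟩
  rotate_left
  · have hsub : ∀ e ∈ A.terms r s, e.1 ∈ K := fun e he => by
      obtain ⟨h1, h2, h3⟩ := term_code_lt h.good hr hs hrp hsp he
      rw [hmem]; exact ⟨⟨h1, by omega⟩, Or.inr (by omega)⟩
    have hsub' : ∀ e ∈ A.terms s r, e.1 ∈ K := fun e he => by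
      obtain ⟨h1, h2, h3⟩ := term_code_lt h.good hs hr hsp hrp he
      rw [hmem]; exact ⟨⟨h1, by omega⟩, Or.inr (by omega)⟩
    have e := hrev u t
    simp only [pre_X] at e ⊢
    have hinv : L.pre.W r s t u = (L.pre.W s r u t)⁻¹ := by
      refine XL_inj L.pre hK hC (L.pre.W_mem_XL hsub t u) (inv_mem (L.pre.W_mem_XL hsub' u t)) ?_
      show P₀.π (p (L.pre.W r s t u)) = P₀.π (p (L.pre.W s r u t)⁻¹)
      have e' := congrArg p e
      simp only [map_mul, L.p_W hs hr, L.lift r hr, L.lift s hs] at e'
      have e0 := hd.st r hr s hs hsr hsn t u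
      rw [e'] at e0
      rw [map_inv, L.p_W hr hs, L.p_W hs hr]
      congr 1
      refine eq_inv_of_mul_eq_one_right ?_
      rw [mul_assoc (P₀.X s u * P₀.X r t) (P₀.W s r u t) (P₀.W r s t u)] at e0
      exact mul_eq_left.1 e0.symm
    rw [hinv, e, mul_inv_cancel_right]
  rw [rel_iff]
  intro t
  refine hk t fun u v => ?_
  set f := fun u => L.defect r s t u
  set k := fun u => L.ψ s u * L.pre.W r s t u
  have hk : ∀ u, k u ∈ L.pre.XL K := by
    intro u
    refine mul_mem (L.pre.X_mem_XL (r := s) ((hmem s).2 ⟨⟨hs, hsp⟩, Or.inl rfl⟩) u)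
      (L.pre.W_mem_XL (fun e he => ?_) t u)
    obtain ⟨h1, h2, h3⟩ := term_code_lt h.good hr hs hrp hsp he
    rw [hmem]
    exact ⟨⟨h1, by omega⟩, Or.inr (by omega)⟩
  have e : ∀ u, (L.ψ r t)⁻¹ * L.ψ s u * L.ψ r t = k u * f u := fun u => by
    simp only [f, k, defect]; group
  have hcv : ∀ u y, Commute (f u) y := fun u y => L.defect_central hd hr hs hsr hsn t u y
  have h1 : k (u + v) * f (u + v) = k u * k v * (f u * f v) := by
    calc k (u + v) * f (u + v) = (k u * f u) * (k v * f v) := by
          rw [← e, ← e, ← e, ← L.add s hs]; group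
      _ = _ := by rw [mul_assoc, ← mul_assoc (f u), (hcv u (k v)).eq]; group
  have h2 : k (u + v) = k u * k v := by
    refine XL_inj L.pre hK hC (hk _) (mul_mem (hk u) (hk v)) ?_
    have hpf : ∀ u, p (f u) = 1 := fun u => L.p_defect hd hr hs hsr hsn t u
    have := congrArg p h1
    simp only [map_mul, hpf, mul_one] at this
    show P₀.π (p (k (u + v))) = P₀.π (p (k u * k v))
    rw [map_mul p (k u) (k v), this]
  rw [h2, mul_right_inj] at h1
  exact h1

/-- the `n_i` permute the lifts -/
def Equiv : Prop :=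
  ∀ i < D.rank, ∃ y : X, ∀ r < D.nroots, ∀ t,
    y * L.ψ r t * y⁻¹ = L.ψ (A.refl i r) ((A.eta i r : F) * t)

theorem rel_refl (hN : L.Equiv) {i r s : ℕ} (hi : i < D.rank) (hr : r < D.nroots) (hs : s < D.nroots)
    (hrs : L.pre.Rel r s) : L.pre.Rel (A.refl i r) (A.refl i s) := by
  obtain ⟨y, hy⟩ := hN i hi
  intro t u
  set a : F := (A.eta i r : F)
  set b : F := (A.eta i s : F)
  have hconj := congrArg (fun z => y * z * y⁻¹) (hrs (a * t) (b * u))
  simp only [pre_X] at hconj ⊢
  rw [show y * (L.ψ s (b * u) * L.ψ r (a * t)) * y⁻¹ =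
      (y * L.ψ s (b * u) * y⁻¹) * (y * L.ψ r (a * t) * y⁻¹) by group,
    show y * (L.ψ r (a * t) * L.ψ s (b * u) * L.pre.W r s (a * t) (b * u)) * y⁻¹ =
      (y * L.ψ r (a * t) * y⁻¹) * (y * L.ψ s (b * u) * y⁻¹) *
        (y * L.pre.W r s (a * t) (b * u) * y⁻¹) by group,
    hy r hr, hy s hs,
    show (A.eta i r : F) * (a * t) = t by rw [← mul_assoc, eta_sq g hi hr, one_mul],
    show (A.eta i s : F) * (b * u) = u by rw [← mul_assoc, eta_sq g hi hs, one_mul]] at hconj
  rw [hconj]
  congr 1
  rw [Pre.W, Pre.W, ← MulAut.conj_apply, map_list_prod, List.map_map, tword, tword,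
    terms_refl g hi hr hs, List.map_map, List.map_map, List.map_map]
  refine congrArg List.prod (List.map_congr_left fun q hq => ?_)
  simp only [Function.comp_def, MulAut.conj_apply, pre_X]
  rw [hy q.1 (terms_mem g hr hs hq).1]
  congr 1
  simp only [a, b]
  push_cast
  ring

/-- all commutator formulas hold -/
theorem isSt (hd : Data h P₀) (hkill : L.Kill) (hN : L.Equiv) : IsSt L.pre := by
  have g := h.good
  refine root_induction g (fun j hj _ s hs hsr hsn => ?_) ?_
  · have hp := g.simple_lt j hj
    have hpc : 0 < code D A (D.simple j) := (pos_iff_code h hp).1 (simple_pos g hj)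
    rcases pos_or_pos_neg g hs with hpos | hneg
    · exact L.rel_side hd hkill (Or.inl rfl) _ hp s hs hsr (by omega)
        (by rw [one_mul]; exact (pos_iff_code h hs).1 hpos)
    · set s' := A.refl j s
      have hs' : s' < D.nroots := g.refl_lt j hj s hs
      have hne : s' ≠ D.simple j := fun e => hsn (by
        rw [← g.refl_refl j hj s hs]; simp only [s'] at e; rw [e, refl_simple g hj])
      have hs'neg : code D A s' < 0 := by
        rcases pos_or_pos_neg g hs' with h' | h'
        · exfalso
          obtain ⟨h2, -⟩ := refl_pos g hj h' hne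
          rw [g.refl_refl j hj s hs] at h2
          exact not_pos_neg g h2 hneg
        · have := (pos_iff_code h (g.neg_lt _ hs')).1 h'
          rw [CfsgLib.Chev.code_neg g hs'] at this
          omega
      have hside := L.rel_side hd hkill (ε := -1) (Or.inr rfl) (A.neg (D.simple j)) (g.neg_lt _ hp) s' hs'
        (fun e => hsr (by
          rw [← g.refl_refl j hj s hs]; simp only [s'] at e
          rw [e, g.refl_neg j hj _ hp, refl_simple g hj, g.neg_neg _ hp]))
        (by rw [CfsgLib.Chev.code_neg g hp]; omega) (by omega)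
      have := L.rel_refl hN hj (g.neg_lt _ hp) hs' hside
      rwa [g.refl_refl j hj s hs, g.refl_neg j hj _ hp, refl_simple g hj, g.neg_neg _ hp] at this
  intro i hi r hr ih s hs hsr hsn
  have hs' := g.refl_lt i hi s hs
  have := L.rel_refl hN hi hr hs' (ih _ hs'
    (fun e => hsr (by rw [← g.refl_refl i hi s hs, e]))
    (fun e => hsn (by rw [← g.refl_refl i hi s hs, e, g.refl_neg i hi r hr])))
  rwa [g.refl_refl i hi s hs] at this

end LiftData

/-- lifts of a presented group satisfying the relations give a section -/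
theorem exists_section (hC : splitChk D A = true) {q : X →* D.SteinbergCover F}
    (L : LiftData (presPre h (le_refl (D.steinbergRelsAB F)) (relsAB_subset F)) q) (hL : IsSt L.pre) :
    ∃ τ : D.SteinbergCover F →* X, q.comp τ = MonoidHom.id _ := by
  have g := h.good
  have hlift : ∀ (r : ℕ) (t : F), r < D.nroots →
      FreeGroup.lift (fun p : Fin D.nroots × F => L.ψ p.1 p.2) (D.stX r t) = L.ψ r t := by
    intro r t hr
    simp [ChevalleyDatum.stX, hr]
  have hrel : ∀ y ∈ D.steinbergRelsAB F,
      FreeGroup.lift (fun p : Fin D.nroots × F => L.ψ p.1 p.2) y = 1 := by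
    rintro y (⟨r, t₁, t₂, hr, rfl⟩ | ⟨r, s, t, u, hr, hs, hsr, hsn, rfl⟩)
    · simp only [map_mul, map_inv, hlift _ _ hr]
      rw [L.add r hr, mul_inv_cancel]
    · rw [g.neg_eq r hr] at hsn
      have hW : FreeGroup.lift (fun p : Fin D.nroots × F => L.ψ p.1 p.2)
          (D.stWord (D.commWord F r s t u)) = L.pre.W r s t u := by
        rw [ChevalleyDatum.stWord, map_list_prod, List.map_map, Pre.W, ChevalleyDatum.commWord,
          commTerms_eq g hr hs, tword, List.map_map, List.map_map]
        refine congrArg List.prod (List.map_congr_left fun c hc => ?_)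
        exact hlift _ _ (terms_mem g hr hs hc).1
      rw [map_mul, map_mul, map_mul, map_mul, map_inv, map_inv, map_inv, hlift _ _ hr, hlift _ _ hs,
        hW, mul_inv_eq_one]
      have := hL r hr s hs hsr hsn t u
      simp only [LiftData.pre_X] at this
      rw [mul_assoc, this]; group
  refine ⟨PresentedGroup.toGroup hrel, MonoidHom.eq_of_eqOn_dense
    (presData h hC (le_refl _) (relsAB_subset F)).gen ?_⟩
  rintro _ ⟨r, t, hr, rfl⟩
  show q (FreeGroup.lift _ (D.stX r t)) = _
  rw [hlift r t hr, L.lift r hr, MonoidHom.id_apply]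

end CfsgLib.Steinberg
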