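import Cfsg.Agent.Lib.Steinberg.Lift
import Cfsg.Agent.Lib.Steinberg.Perfect

/-!
Over a field with more than four elements the group of the relators (R1), (R2) has no nontrivial central
extension: commutators of lifted torus and root elements give canonical lifts.
-/

set_option autoImplicit false

namespace CfsgLib.Steinberg

open Cfsg.Lie Matrix CfsgLib.Chev
open scoped commutatorElement

variable {D : ChevalleyDatum} {A : Aux} {F : Type*} [Field F]

variable (D A) in
/-- a fundamental root is moved by every scalar or is a commutator with coefficient two -/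
noncomputable def abChk : Bool :=
  (List.range D.rank).all fun i =>
    ((List.range D.rank).any fun j => (List.range D.rank).any fun k =>
      [-1, 0, 1, 2].any fun m : ℤ => [-1, 0, 1, 2].any fun n : ℤ =>
        decide (m * A.cart j (D.simple i) + n * A.cart k (D.simple i) = 1)) ||
    (List.range D.nroots).any fun r => (List.range D.nroots).any fun s =>
      twoTerm A (D.simple i) r s && decide (A.terms r (D.simple i) = [] ∧ A.terms s (D.simple i) = [] ∧
        D.simple i ≠ r ∧ D.simple i ≠ A.neg r ∧ D.simple i ≠ s ∧ D.simple i ≠ A.neg s)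

variable (D A) in
/-- the Cartan integers of two independent roots -/
noncomputable def prChk : Bool :=
  (List.range D.rank).all fun i => (List.range D.nroots).all fun s =>
    decide (s = D.simple i ∨ s = A.neg (D.simple i) ∨ pr D A s (D.simple i) = 0 ∨
      (1 ≤ A.cart i s * pr D A s (D.simple i) ∧ A.cart i s * pr D A s (D.simple i) ≤ 3))

theorem pr_self (g : Good D A) : ∀ r < D.nroots, pr D A r r = 2 := by
  refine root_induction g (fun j hj _ => by rw [pr_simple g hj, g.cart_simple j hj]) ?_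
  intro i hi r hr ih
  rw [pr_refl g hi hr hr, ih]

theorem pr_bound (g : Good D A) (hC : prChk D A = true) : ∀ r < D.nroots, ∀ s < D.nroots, s ≠ r →
    s ≠ A.neg r → pr D A s r = 0 ∨ (1 ≤ pr D A r s * pr D A s r ∧ pr D A r s * pr D A s r ≤ 3) := by
  refine root_induction g (fun j hj _ s hs hsr hsn => ?_) ?_
  · simp only [prChk, List.all_eq_true, List.mem_range, decide_eq_true_eq] at hC
    rw [pr_simple g hj]
    rcases hC j hj s hs with h' | h' | h'
    exacts [absurd h' hsr, absurd h' hsn, h']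
  intro i hi r hr ih s hs hsr hsn
  have hs' := g.refl_lt i hi s hs
  rw [← g.refl_refl i hi s hs, pr_refl g hi hs' hr, pr_refl g hi hr hs']
  exact ih _ hs' (fun e => hsr (by rw [← g.refl_refl i hi s hs, e]))
    (fun e => hsn (by rw [← g.refl_refl i hi s hs, e, g.refl_neg i hi r hr]))

/-- the character of a coroot -/
theorem chi_coro (r : ℕ) (a : Fˣ) (s : ℕ) :
    chi D A (fun j : Fin D.rank => a ^ A.coro r j.val) s = a ^ pr D A r s := by
  simp only [chi, pr, ← _root_.zpow_mul, Finset.sum_range]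
  induction (Finset.univ : Finset (Fin D.rank)) using Finset.induction_on with
  | empty => simp
  | insert b S hb ih => rw [Finset.sum_insert hb, Finset.prod_insert hb, _root_.zpow_add, ih]

theorem chi_zpow (c : Fin D.rank → Fˣ) (n : ℤ) (s : ℕ) : chi D A (c ^ n) s = chi D A c s ^ n :=
  map_zpow (MonoidHom.mk' (fun c : Fin D.rank → Fˣ => chi D A c s) fun c d => chi_mul c d s) c n

theorem xG_inj (g : Good D A) {r : ℕ} (hr : r < D.nroots) {t u : F} (e : xG g r t = xG g r u) :
    t = u := by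
  by_contra hne
  have h1 : xG g r (t + -u) = xG g (A.neg r) 0 := by
    rw [← xG_add, e, xG_add, add_neg_cancel, xG_zero, xG_zero]
  exact g.neg_ne r hr (xG_inj_root g hr (g.neg_lt r hr)
    (fun e0 => hne (add_neg_eq_zero.1 e0)) h1).symm

theorem chi_of_tor {c c' : Fin D.rank → Fˣ} (e : tor D A c = tor D A c') {r : ℕ} (hr : r < D.nroots) :
    chi D A c r = chi D A c' r := by
  have h2 : dia D (fun s => (chi D A c s : F)) = dia D fun s => (chi D A c' s : F) := by
    rw [← tor_val, ← tor_val, e]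
  have := congrFun (congrFun h2 (Sum.inr ⟨r, hr⟩)) (Sum.inr ⟨r, hr⟩)
  exact Units.ext (by simpa [dia] using this)

theorem exists_pow_ne (hK : ∃ s : Finset F, 4 < s.card) {n : ℕ} (hn : 0 < n) (hn3 : n ≤ 3) :
    ∃ a : Fˣ, (a : F) ^ n ≠ 1 := by
  classical
  obtain ⟨s, hs⟩ := hK
  by_contra hcon
  push Not at hcon
  have hsub : s.erase 0 ⊆ (Polynomial.nthRoots n (1 : F)).toFinset := by
    intro x hx
    rw [Multiset.mem_toFinset, Polynomial.mem_nthRoots hn]
    exact hcon (Units.mk0 x (Finset.mem_erase.1 hx).1)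
  have h1 := Finset.card_le_card hsub
  have h2 := Multiset.toFinset_card_le (Polynomial.nthRoots n (1 : F))
  have h3 := Polynomial.card_nthRoots n (1 : F)
  have h4 := Finset.pred_card_le_card_erase (a := (0 : F)) (s := s)
  omega

/-- two scalars avoiding a quadratic -/
theorem exists_avoid (hK : ∃ s : Finset F, 4 < s.card) (b : F) :
    ∃ a : F, a ≠ 0 ∧ a ≠ 1 ∧ a * a + b * a + 1 ≠ 0 := by
  classical
  obtain ⟨s, hs⟩ := hK
  by_contra hcon
  push Not at hcon
  obtain ⟨x, hx, hx01⟩ : ∃ x ∈ s, x ≠ 0 ∧ x ≠ 1 := by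
    by_contra hc
    push Not at hc
    have : s ⊆ {0, 1} := fun x hx => by
      by_cases e : x = 0
      · simp [e]
      · simp [hc x hx e]
    have := Finset.card_le_card this
    have := Finset.card_le_two (a := (0 : F)) (b := 1)
    omega
  have hsub : s ⊆ {0, 1, x, -b - x} := by
    intro y hy
    by_cases h0 : y = 0
    · simp [h0]
    by_cases h1 : y = 1
    · simp [h1]
    have e1 := hcon y h0 h1
    have e2 := hcon x hx01.1 hx01.2
    have : (y - x) * (y + b + x) = 0 := by linear_combination e1 - e2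
    rcases mul_eq_zero.1 this with e | e
    · simp [sub_eq_zero.1 e]
    · simp [show y = -b - x by linear_combination e]
  have := Finset.card_le_card hsub
  have := Finset.card_le_four (a := (0 : F)) (b := 1) (c := x) (d := -b - x)
  omega

/-- conjugate torus elements act by the same character -/
theorem chi_of_conj (g : Good D A) {n : GL D.Idx F} {c c' : Fin D.rank → Fˣ} {r r' : ℕ} {k : F}
    (h1 : n * tor D A c * n⁻¹ = tor D A c') (hr : r < D.nroots) (hr' : r' < D.nroots)
    (h2 : ∀ t, n * xG g r t * n⁻¹ = xG g r' (k * t)) (hk : k ≠ 0) :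
    chi D A c' r' = chi D A c r := by
  refine Units.ext (mul_left_cancel₀ hk (xG_inj g hr' ?_))
  calc xG g r' (k * (chi D A c' r' : F))
      = tor D A c' * (n * xG g r 1 * n⁻¹) * (tor D A c')⁻¹ := by
        rw [h2, tor_conj_xG g c' hr', mul_one, mul_comm]
    _ = n * (tor D A c * xG g r 1 * (tor D A c)⁻¹) * n⁻¹ := by rw [← h1]; group
    _ = _ := by rw [tor_conj_xG g c hr, h2, mul_one]

/-- a central extension of a perfect group with Steinberg's relations -/
structure Ext (h : Std D A) {G₀ : Type*} [Group G₀] (P₀ : Pre h.good F G₀) {X : Type*} [Group X]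
    (p : X →* G₀) : Prop where
  data : Data h P₀
  perfect : commutator G₀ = ⊤
  surj : Function.Surjective p
  central : p.ker ≤ Subgroup.center X

variable {h : Std D A} {G₀ : Type*} [Group G₀] {P₀ : Pre h.good F G₀} {X : Type*} [Group X]
  {p : X →* G₀}

namespace Ext

variable (hx : Ext h P₀ p)
include hx

theorem central_of_mem {x : X} (hxc : p x ∈ Subgroup.center G₀) : x ∈ Subgroup.center X := by
  classical
  have hz : ∀ y : X, ⁅x, y⁆ ∈ Subgroup.center X := fun y => hx.central (by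
    rw [MonoidHom.mem_ker, map_commutatorElement, commutatorElement_eq_one_iff_mul_comm]
    exact (Subgroup.mem_center_iff.1 hxc (p y)).symm)
  have hdep : ∀ y y' : X, p y = p y' → ⁅x, y⁆ = ⁅x, y'⁆ := by
    intro y y' e
    obtain ⟨z, hz', rfl⟩ : ∃ z ∈ Subgroup.center X, y' = y * z :=
      ⟨y⁻¹ * y', hx.central (by simp [MonoidHom.mem_ker, e]), by group⟩
    have hzc := Subgroup.mem_center_iff.1 hz'
    simp only [commutatorElement_def, _root_.mul_inv_rev]
    rw [show x * (y * z) * x⁻¹ * (z⁻¹ * y⁻¹) = x * y * (z * x⁻¹) * (z⁻¹ * y⁻¹) by group, ← hzc x⁻¹]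
    group
  letI : CommGroup (Subgroup.center X) :=
    { (inferInstance : Group (Subgroup.center X)) with
      mul_comm := fun a b => Subtype.ext (Subgroup.mem_center_iff.1 b.2 a) }
  set l := Function.surjInv hx.surj
  let φ : G₀ →* Subgroup.center X := MonoidHom.mk' (fun y => ⟨⁅x, l y⁆, hz _⟩) fun a b => by
    refine Subtype.ext ?_
    show ⁅x, l (a * b)⁆ = ⁅x, l a⁆ * ⁅x, l b⁆
    rw [hdep (l (a * b)) (l a * l b) (by simp [l, Function.surjInv_eq hx.surj])]
    have := Subgroup.mem_center_iff.1 (hz (l b)) (l a)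
    calc ⁅x, l a * l b⁆ = ⁅x, l a⁆ * (l a * ⁅x, l b⁆ * (l a)⁻¹) := by
          simp only [commutatorElement_def, _root_.mul_inv_rev]; group
      _ = _ := by rw [this]; group
  rw [Subgroup.mem_center_iff]
  intro y
  have h1 : φ (p y) = 1 := by
    have := Abelianization.commutator_subset_ker φ (show p y ∈ commutator G₀ by rw [hx.perfect]; trivial)
    exact this
  have h2 : ⁅x, y⁆ = 1 := by
    rw [hdep y (l (p y)) (by simp [l, Function.surjInv_eq hx.surj])]
    exact congrArg Subtype.val h1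
  exact (commutatorElement_eq_one_iff_mul_comm.1 h2).symm

theorem cen {x : X} (e : P₀.π (p x) = 1) : x ∈ Subgroup.center X :=
  hx.central_of_mem (ker_le_center hx.data e)

theorem cc {x x' y y' : X} (e₁ : P₀.π (p x) = P₀.π (p x')) (e₂ : P₀.π (p y) = P₀.π (p y')) :
    ⁅x, y⁆ = ⁅x', y'⁆ := by
  obtain ⟨z, hz, rfl⟩ : ∃ z ∈ Subgroup.center X, x' = x * z :=
    ⟨x⁻¹ * x', hx.cen (by simp [e₁]), by group⟩
  obtain ⟨w, hw, rfl⟩ : ∃ w ∈ Subgroup.center X, y' = y * w :=
    ⟨y⁻¹ * y', hx.cen (by simp [e₂]), by group⟩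
  have hzc := Subgroup.mem_center_iff.1 hz
  have hwc := Subgroup.mem_center_iff.1 hw
  simp only [commutatorElement_def, _root_.mul_inv_rev]
  calc x * y * x⁻¹ * y⁻¹ = x * (y * x⁻¹) * y⁻¹ := by group
    _ = x * (z * (y * w)) * (z⁻¹ * x⁻¹) * (w⁻¹ * y⁻¹) := by
        rw [show z * (y * w) = y * w * z from (hzc _).symm,
          show x * (y * w * z) * (z⁻¹ * x⁻¹) * (w⁻¹ * y⁻¹) = x * y * (w * x⁻¹) * w⁻¹ * y⁻¹ by group,
          ← hwc x⁻¹]
        group
    _ = _ := by group

theorem exists_lift {y : GL D.Idx F} (hy : y ∈ D.group F) : ∃ x : X, P₀.π (p x) = y := by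
  rw [← range_π hx.data] at hy
  obtain ⟨z, rfl⟩ := hy
  obtain ⟨x, rfl⟩ := hx.surj z
  exact ⟨x, rfl⟩

/-- a lift of a torus element -/
noncomputable def tL (c : Fin D.rank → Fˣ) : X :=
  (hx.exists_lift (y := tor D A c)
    (diagonalSubgroup_le_group h.good (by rw [diagonalSubgroup_eq h.good]; exact ⟨c, rfl⟩))).choose

theorem π_tL (c : Fin D.rank → Fˣ) : P₀.π (p (hx.tL c)) = tor D A c :=
  (hx.exists_lift (y := tor D A c)
    (diagonalSubgroup_le_group h.good (by rw [diagonalSubgroup_eq h.good]; exact ⟨c, rfl⟩))).choose_spec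

/-- a lift of a root element -/
noncomputable def xL (r : ℕ) (t : F) : X :=
  (hx.exists_lift (xG_mem_group h.good r t)).choose

theorem π_xL (r : ℕ) (t : F) : P₀.π (p (hx.xL r t)) = xG h.good r t :=
  (hx.exists_lift (xG_mem_group h.good r t)).choose_spec

/-- lifts of one root commute -/
def Ab (r : ℕ) : Prop := ∀ t u, ⁅hx.xL r t, hx.xL r u⁆ = 1

theorem B_cen (r : ℕ) (t u : F) : ⁅hx.xL r t, hx.xL r u⁆ ∈ Subgroup.center X := hx.cen (by
  rw [map_commutatorElement, map_commutatorElement, hx.π_xL, hx.π_xL,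
    commutatorElement_eq_one_iff_mul_comm, xG_add, xG_add, add_comm])

theorem B_conj {x : X} {r r' : ℕ} {k : F}
    (hk : ∀ t, P₀.π (p x) * xG h.good r t * (P₀.π (p x))⁻¹ = xG h.good r' (k * t)) (t u : F) :
    ⁅hx.xL r' (k * t), hx.xL r' (k * u)⁆ = ⁅hx.xL r t, hx.xL r u⁆ := by
  have e : x * ⁅hx.xL r t, hx.xL r u⁆ * x⁻¹ = ⁅x * hx.xL r t * x⁻¹, x * hx.xL r u * x⁻¹⁆ := by
    simp only [commutatorElement_def]; group
  rw [Subgroup.mem_center_iff.1 (hx.B_cen r t u) x, mul_inv_cancel_right] at e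
  rw [e]
  refine hx.cc ?_ ?_ <;> simp [map_mul, map_inv, hx.π_xL, hk]

theorem B_add_left (r : ℕ) (t v u : F) :
    ⁅hx.xL r (t + v), hx.xL r u⁆ = ⁅hx.xL r t, hx.xL r u⁆ * ⁅hx.xL r v, hx.xL r u⁆ := by
  rw [hx.cc (x' := hx.xL r t * hx.xL r v) (y' := hx.xL r u)
    (by simp [hx.π_xL, xG_add]) rfl]
  calc ⁅hx.xL r t * hx.xL r v, hx.xL r u⁆
      = hx.xL r t * ⁅hx.xL r v, hx.xL r u⁆ * (hx.xL r t)⁻¹ * ⁅hx.xL r t, hx.xL r u⁆ := by
        simp only [commutatorElement_def]; group
    _ = _ := by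
        rw [Subgroup.mem_center_iff.1 (hx.B_cen r v u) (hx.xL r t), mul_inv_cancel_right,
          Subgroup.mem_center_iff.1 (hx.B_cen r v u) _]

theorem B_add_right (r : ℕ) (t v u : F) :
    ⁅hx.xL r u, hx.xL r (t + v)⁆ = ⁅hx.xL r u, hx.xL r t⁆ * ⁅hx.xL r u, hx.xL r v⁆ := by
  rw [hx.cc (x := hx.xL r u) (x' := hx.xL r u) (y' := hx.xL r t * hx.xL r v) rfl
    (by simp [hx.π_xL, xG_add])]
  calc ⁅hx.xL r u, hx.xL r t * hx.xL r v⁆
      = ⁅hx.xL r u, hx.xL r t⁆ * (hx.xL r t * ⁅hx.xL r u, hx.xL r v⁆ * (hx.xL r t)⁻¹) := by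
        simp only [commutatorElement_def, _root_.mul_inv_rev]; group
    _ = _ := by rw [Subgroup.mem_center_iff.1 (hx.B_cen r u v) (hx.xL r t), mul_inv_cancel_right]

/-- invariance under `a` and `1 - a` kills a biadditive form -/
theorem ab_of_inv {r : ℕ} (a : F) (ha : a ≠ 0) (hq : a * a - a + 1 ≠ 0)
    (h1 : ∀ t u, ⁅hx.xL r (a * t), hx.xL r (a * u)⁆ = ⁅hx.xL r t, hx.xL r u⁆)
    (h2 : ∀ t u, ⁅hx.xL r ((1 - a) * t), hx.xL r ((1 - a) * u)⁆ = ⁅hx.xL r t, hx.xL r u⁆) :
    hx.Ab r := by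
  set f := fun t u => ⁅hx.xL r t, hx.xL r u⁆ with hf
  have al : ∀ t v u, f (t + v) u = f t u * f v u := hx.B_add_left r
  have ar : ∀ t v u, f u (t + v) = f u t * f u v := hx.B_add_right r
  have key : ∀ t u, f ((a⁻¹ + a - 1) * t) u = 1 := by
    intro t u
    have e1 : f t u = f ((1 - a) * t) u * f (a * t) u := by rw [← al]; congr 1; ring
    have e2 : f ((1 - a) * t) u = f t u * f ((1 - a) * t) (a * u) := by
      conv_rhs => rw [show f t u = f ((1 - a) * t) ((1 - a) * u) from (h2 t u).symm]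
      rw [← ar]; congr 1; ring
    have e3 : f ((1 - a) * t) (a * u) * f t u = f t (a * u) := by
      conv_lhs => rw [show f t u = f (a * t) (a * u) from (h1 t u).symm]
      rw [← al]; congr 1; ring
    have e4 : f t (a * u) = f (a⁻¹ * t) u := by
      have := h1 (a⁻¹ * t) u
      rw [mul_inv_cancel_left₀ ha] at this
      exact this
    have e5 : f ((a⁻¹ + a) * t) u = f t u := by
      rw [add_mul, al, ← e4, ← e3]
      rw [e2, mul_assoc] at e1
      have hc := fun t u (y : X) => Subgroup.mem_center_iff.1 (hx.B_cen r t u) y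
      rw [mul_assoc, hc (a * t) u (f t u), ← mul_assoc, mul_eq_left.1 e1.symm, one_mul]
    have := al ((a⁻¹ + a - 1) * t) t u
    rw [show (a⁻¹ + a - 1) * t + t = (a⁻¹ + a) * t by ring, e5, eq_comm, mul_eq_right] at this
    exact this
  intro t u
  have hne : a⁻¹ + a - 1 ≠ 0 := by
    intro e
    apply hq
    field_simp at e
    linear_combination e
  have := key ((a⁻¹ + a - 1)⁻¹ * t) u
  rwa [mul_inv_cancel_left₀ hne] at this

theorem ab_simple (hC : abChk D A = true) (hK : ∃ s : Finset F, 4 < s.card) {i : ℕ}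
    (hi : i < D.rank) : hx.Ab (D.simple i) := by
  have g := h.good
  have hp := g.simple_lt i hi
  set q := D.simple i
  have inv : ∀ (c : Fin D.rank → Fˣ) (t u : F),
      ⁅hx.xL q ((chi D A c q : F) * t), hx.xL q ((chi D A c q : F) * u)⁆ =
        ⁅hx.xL q t, hx.xL q u⁆ := fun c =>
    hx.B_conj (x := hx.tL c) fun t => by rw [hx.π_tL]; exact tor_conj_xG g c hp t
  simp only [abChk, List.all_eq_true, List.mem_range, Bool.or_eq_true, List.any_eq_true,
    Bool.and_eq_true, decide_eq_true_eq, twoTerm] at hC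
  rcases hC i hi with ⟨j, hj, k, hk, m, -, n, -, e⟩ | ⟨r, hr, s, hs, ⟨hsr, hsn, hterm⟩, hrp, hsp, n1, n2, n3, n4⟩
  · obtain ⟨a, ha0, ha1, haq⟩ := exists_avoid hK (-1)
    have hall : ∀ d : F, d ≠ 0 → ∀ t u, ⁅hx.xL q (d * t), hx.xL q (d * u)⁆ = ⁅hx.xL q t, hx.xL q u⁆ := by
      intro d hd t u
      have hc : chi D A (Pi.mulSingle (⟨j, hj⟩ : Fin D.rank) (Units.mk0 d hd ^ m) *
          Pi.mulSingle ⟨k, hk⟩ (Units.mk0 d hd ^ n)) q = Units.mk0 d hd := by
        rw [chi_mul, exists_torus g hi hj, exists_torus g hi hk, ← _root_.zpow_mul, ← _root_.zpow_mul,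
          ← _root_.zpow_add, e, zpow_one]
      have := inv (Pi.mulSingle (⟨j, hj⟩ : Fin D.rank) (Units.mk0 d hd ^ m) *
        Pi.mulSingle ⟨k, hk⟩ (Units.mk0 d hd ^ n)) t u
      rwa [hc] at this
    exact hx.ab_of_inv a ha0 (fun e => haq (by linear_combination e)) (hall a ha0)
      (hall (1 - a) (sub_ne_zero.2 (Ne.symm ha1)))
  by_cases h2 : (2 : F) = 0
  · obtain ⟨x, hx0, hx1, hxq⟩ := exists_avoid hK 1
    have hsq : ∀ d : F, d ≠ 0 → ∀ t u,
        ⁅hx.xL q (d * d * t), hx.xL q (d * d * u)⁆ = ⁅hx.xL q t, hx.xL q u⁆ := by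
      intro d hd t u
      have := inv (Pi.mulSingle (⟨i, hi⟩ : Fin D.rank) (Units.mk0 d hd)) t u
      rwa [exists_torus g hi hi, g.cart_simple i hi, zpow_two, Units.val_mul, Units.val_mk0] at this
    refine hx.ab_of_inv (x * x) (mul_ne_zero hx0 hx0) (fun e => hxq ?_) (hsq x hx0) (fun t u => ?_)
    · refine mul_self_eq_zero.1 ?_
      linear_combination e + (x * x * x + 2 * x * x + x) * h2
    · have := hsq (1 + x) (fun e => hx1 (by linear_combination e - h2)) t u
      rwa [show (1 + x) * (1 + x) = 1 - x * x by linear_combination (x + x * x) * h2] at this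
  · obtain ⟨c, hc0, e⟩ : ∃ c : ℤ, (c : F) ≠ 0 ∧ A.terms r s = [(q, c, 1, 1)] := by
      rcases hterm with e | e
      · exact ⟨2, by simpa using h2, e⟩
      · exact ⟨-2, by simpa using h2, e⟩
    intro t w
    set a := hx.xL s (w / c)
    set b := hx.xL r (-1)
    have hK' : P₀.π (p ⁅a⁻¹, b⁻¹⁆) = xG h.good q w := by
      simp only [commutatorElement_def, inv_inv, map_mul, map_inv, a, b, hx.π_xL]
      have h1 : xG h.good s (w / c : F) * xG h.good r (-1) =
          xG h.good r (-1) * xG h.good s (w / c : F) * xG h.good q w := by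
        refine Units.ext ?_
        simp only [Units.val_mul, xG_val]
        rw [commF_all h hr hs hsr hsn (-1) (w / c : F), tword, e]
        simp [wordMat_cons, wordMat_nil, mul_div_cancel₀ _ hc0]
      rw [mul_assoc, h1]; group
    rw [hx.cc (x' := hx.xL q t) (y' := ⁅a⁻¹, b⁻¹⁆) rfl (by rw [hK', hx.π_xL]),
      commutatorElement_eq_one_iff_mul_comm]
    set y := hx.xL q t
    have hcom : ∀ r' < D.nroots, A.terms r' q = [] → q ≠ r' → q ≠ A.neg r' → ∀ v,
        P₀.π (p (y * (hx.xL r' v)⁻¹ * y⁻¹)) = P₀.π (p (hx.xL r' v)⁻¹) := by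
      intro r' hr' he h1' h2' v
      simp only [map_mul, map_inv, y, hx.π_xL, xG_inv h.good r']
      rw [mul_inv_eq_iff_eq_mul]
      refine Units.ext ?_
      simp only [Units.val_mul, xG_val]
      rw [commF_all h hr' hp h1' h2' (-v) t, tword, he]
      simp [wordMat_nil]
    have hy : y * ⁅a⁻¹, b⁻¹⁆ * y⁻¹ = ⁅a⁻¹, b⁻¹⁆ :=
      calc y * ⁅a⁻¹, b⁻¹⁆ * y⁻¹ = ⁅y * a⁻¹ * y⁻¹, y * b⁻¹ * y⁻¹⁆ := by
            simp only [commutatorElement_def]; group
        _ = _ := hx.cc (hcom s hs hsp n3 n4 _) (hcom r hr hrp n1 n2 _)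
    exact mul_inv_eq_iff_eq_mul.1 hy

theorem ab_all (hC : abChk D A = true) (hK : ∃ s : Finset F, 4 < s.card) :
    ∀ r < D.nroots, hx.Ab r := by
  have g := h.good
  refine root_induction g (fun j hj _ => hx.ab_simple hC hK hj) ?_
  intro i hi r hr ih t u
  obtain ⟨x, hx'⟩ := hx.exists_lift (nS_mem_group g i)
  have := hx.B_conj (x := x) (r := r) (r' := A.refl i r) (k := (A.eta i r : F))
    (fun v => by rw [hx']; exact nS_conj_xG g hi hr v) ((A.eta i r : F) * t) ((A.eta i r : F) * u)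
  rwa [← mul_assoc, eta_sq g hi hr, one_mul, ← mul_assoc, eta_sq g hi hr, one_mul, ih] at this

/-- a lift of a root element moved by a torus element -/
noncomputable def tw (c : Fin D.rank → Fˣ) (r : ℕ) (t : F) : X :=
  ⁅hx.tL c, hx.xL r (t / ((chi D A c r : F) - 1))⁆

/-- lifts of all the roots commute among themselves -/
def AbAll : Prop := ∀ r < D.nroots, hx.Ab r

theorem p_tw {c : Fin D.rank → Fˣ} {r : ℕ} (hr : r < D.nroots) (hc : (chi D A c r : F) ≠ 1) (t : F) :
    p (hx.tw c r t) = P₀.X r t := by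
  have g := h.good
  have hmem : tor D A c ∈ D.group F :=
    diagonalSubgroup_le_group g (by rw [diagonalSubgroup_eq g]; exact ⟨c, rfl⟩)
  obtain ⟨z, hz, hzc⟩ : ∃ z ∈ HB P₀, P₀.π z = tor D A c := by
    suffices ∀ S : Finset (Fin D.rank), ∃ z ∈ HB P₀,
        P₀.π z = tor D A (fun i => if i ∈ S then c i else 1) by simpa using this Finset.univ
    intro S
    induction S using Finset.induction_on with
    | empty => exact ⟨1, one_mem _, by simp; exact (map_one _).symm⟩
    | insert b S hb ih =>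
      obtain ⟨z, hz, hz'⟩ := ih
      refine ⟨HH P₀ b (c b : F) * z, mul_mem (HH_mem_HB P₀ b.isLt (c b).ne_zero) hz, ?_⟩
      rw [map_mul, hz', π_HH P₀ b.isLt, hG_simple, ← map_mul]
      congr 1
      funext i
      by_cases e : i = b
      · subst e; simp [hb]
      · simp [e]
  obtain ⟨c', hc', hc''⟩ := HB_moves hx.data hz
  have hd' : (chi D A c' r : F) = (chi D A c r : F) := by rw [chi_of_tor (hc''.symm.trans hzc) hr]
  have hcen : ∀ y : G₀, P₀.π y = 1 → ∀ w, Commute y w := fun y e w =>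
    (Subgroup.mem_center_iff.1 (ker_le_center hx.data e) w).symm
  set v := t / ((chi D A c r : F) - 1)
  have e0 : ⁅p (hx.tL c), p (hx.xL r v)⁆ = ⁅z, P₀.X r v⁆ := by
    obtain ⟨w, hw, e⟩ : ∃ w, P₀.π w = 1 ∧ p (hx.tL c) = z * w :=
      ⟨z⁻¹ * p (hx.tL c), by rw [map_mul, map_inv, hzc, hx.π_tL, inv_mul_cancel], by group⟩
    obtain ⟨w', hw', e'⟩ : ∃ w, P₀.π w = 1 ∧ p (hx.xL r v) = P₀.X r v * w :=
      ⟨(P₀.X r v)⁻¹ * p (hx.xL r v), by
        rw [map_mul, map_inv, P₀.proj r hr, hx.π_xL, inv_mul_cancel], by group⟩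
    rw [e, e']
    simp only [commutatorElement_def, _root_.mul_inv_rev]
    rw [show z * w * (P₀.X r v * w') = z * (P₀.X r v * w') * w by
      rw [mul_assoc, (hcen w hw _).eq, ← mul_assoc],
      show z * (P₀.X r v * w') * w * (w⁻¹ * z⁻¹) * (w'⁻¹ * (P₀.X r v)⁻¹) =
        z * P₀.X r v * (w' * z⁻¹) * w'⁻¹ * (P₀.X r v)⁻¹ by group, (hcen w' hw' z⁻¹).eq]
    group
  rw [tw, map_commutatorElement, e0, commutatorElement_def, hc' r hr, P₀.inv hr, id_eq, P₀.add r hr]
  congr 1
  simp only [hd', v]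
  rw [← sub_eq_add_neg, ← sub_one_mul, mul_div_cancel₀ _ (sub_ne_zero.2 hc)]

theorem π_tw {c : Fin D.rank → Fˣ} {r : ℕ} (hr : r < D.nroots) (hc : (chi D A c r : F) ≠ 1) (t : F) :
    P₀.π (p (hx.tw c r t)) = xG h.good r t := by rw [hx.p_tw hr hc, P₀.proj r hr]

theorem tw_add (hab : hx.AbAll) (c : Fin D.rank → Fˣ) {r : ℕ} (hr : r < D.nroots) (t u : F) :
    hx.tw c r t * hx.tw c r u = hx.tw c r (t + u) := by
  simp only [tw]
  set d : F := (chi D A c r : F)
  set v := t / (d - 1)
  set w := u / (d - 1)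
  rw [hx.cc (x := hx.tL c) (y := hx.xL r ((t + u) / _)) (x' := hx.tL c)
    (y' := hx.xL r v * hx.xL r w) rfl (by simp [hx.π_xL, xG_add, v, w, add_div])]
  have hc : Commute (hx.xL r v) ⁅hx.tL c, hx.xL r w⁆ := by
    rw [show ⁅hx.tL c, hx.xL r w⁆ = hx.tL c * hx.xL r w * (hx.tL c)⁻¹ * (hx.xL r w)⁻¹ from
        commutatorElement_def _ _]
    refine Commute.mul_right ?_ (Commute.inv_right (commutatorElement_eq_one_iff_mul_comm.1
      (hab r hr v w)))
    obtain ⟨z, hz, e⟩ : ∃ z ∈ Subgroup.center X,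
        hx.tL c * hx.xL r w * (hx.tL c)⁻¹ = hx.xL r (d * w) * z :=
      ⟨_, hx.cen (x := (hx.xL r (d * w))⁻¹ * (hx.tL c * hx.xL r w * (hx.tL c)⁻¹)) (by
          simp [hx.π_xL, hx.π_tL, tor_conj_xG h.good _ hr, d]), by group⟩
    rw [e]
    exact Commute.mul_right (commutatorElement_eq_one_iff_mul_comm.1 (hab r hr v _))
      (Subgroup.mem_center_iff.1 hz _)
  calc ⁅hx.tL c, hx.xL r v⁆ * ⁅hx.tL c, hx.xL r w⁆
      = ⁅hx.tL c, hx.xL r v⁆ * (hx.xL r v * ⁅hx.tL c, hx.xL r w⁆ * (hx.xL r v)⁻¹) := by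
        rw [hc.eq, mul_inv_cancel_right]
    _ = _ := by simp only [commutatorElement_def, _root_.mul_inv_rev]; group

/-- elements moving a torus element and a root move the lifts -/
theorem tw_conj {x : X} {c c' : Fin D.rank → Fˣ} {r r' : ℕ} {k : F}
    (h1 : P₀.π (p x) * tor D A c * (P₀.π (p x))⁻¹ = tor D A c')
    (h2 : ∀ t, P₀.π (p x) * xG h.good r t * (P₀.π (p x))⁻¹ = xG h.good r' (k * t))
    (h3 : chi D A c' r' = chi D A c r) (t : F) :
    x * hx.tw c r t * x⁻¹ = hx.tw c' r' (k * t) := by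
  rw [tw, tw, h3, show x * ⁅hx.tL c, hx.xL r (t / ((chi D A c r : F) - 1))⁆ * x⁻¹ =
    ⁅x * hx.tL c * x⁻¹, x * hx.xL r (t / ((chi D A c r : F) - 1)) * x⁻¹⁆ by
      simp only [commutatorElement_def]; group]
  refine hx.cc ?_ ?_
  · simp [hx.π_tL, h1]
  · simp only [map_mul, map_inv, hx.π_xL, h2, mul_div_assoc]

/-- the lift does not depend on the torus element -/
theorem tw_indep (hab : hx.AbAll) {c c' : Fin D.rank → Fˣ} {r : ℕ} (hr : r < D.nroots)
    (hc : (chi D A c r : F) ≠ 1) (hc' : (chi D A c' r : F) ≠ 1) (t : F) :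
    hx.tw c' r t = hx.tw c r t := by
  set d' : F := (chi D A c' r : F)
  set v := t / (d' - 1)
  have e1 : hx.tw c' r t = ⁅hx.tL c', hx.tw c r v⁆ :=
    hx.cc rfl (by rw [hx.π_xL, hx.π_tw hr hc])
  have e2 : hx.tL c' * hx.tw c r v * (hx.tL c')⁻¹ = hx.tw c r (d' * v) :=
    hx.tw_conj (by rw [hx.π_tL, tor_mul_comm, mul_inv_cancel_right])
      (fun u => by rw [hx.π_tL]; exact tor_conj_xG h.good c' hr u) rfl v
  rw [e1, commutatorElement_def, e2, mul_inv_eq_iff_eq_mul, hx.tw_add hab c hr]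
  congr 1
  rw [show t = (d' - 1) * v by simp only [v]; rw [mul_div_cancel₀ _ (sub_ne_zero.2 hc')]]
  ring

/-- every root is moved by some torus element -/
def Movable (D : ChevalleyDatum) (A : Aux) (F : Type*) [Field F] : Prop :=
  ∀ r < D.nroots, ∃ c : Fin D.rank → Fˣ, (chi D A c r : F) ≠ 1

/-- the chosen torus element of a root -/
noncomputable def cs (_ : Ext h P₀ p) (hm : Movable D A F) (r : ℕ) : Fin D.rank → Fˣ :=
  if hr : r < D.nroots then (hm r hr).choose else 1

theorem cs_ne (hm : Movable D A F) {r : ℕ} (hr : r < D.nroots) :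
    (chi D A (hx.cs hm r) r : F) ≠ 1 := by
  rw [cs, dif_pos hr]; exact (hm r hr).choose_spec

/-- the canonical lifts form lift data -/
noncomputable def liftData (hm : Movable D A F) (hab : hx.AbAll) : LiftData P₀ p where
  ψ r t := hx.tw (hx.cs hm r) r t
  central := hx.central
  lift r hr t := hx.p_tw hr (hx.cs_ne hm hr) t
  add r hr t u := hx.tw_add hab _ hr t u

theorem equiv (hm : Movable D A F) (hab : hx.AbAll) : (hx.liftData hm hab).Equiv := by
  intro i hi
  have g := h.good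
  obtain ⟨x, hx'⟩ := hx.exists_lift (nS_mem_group g i)
  refine ⟨x, fun r hr t => ?_⟩
  set c := hx.cs hm r
  set r' := A.refl i r
  set k : F := (A.eta i r : F)
  have hr' : r' < D.nroots := g.refl_lt i hi r hr
  obtain ⟨c', hc'⟩ : ∃ c', nS F g i * tor D A c * (nS F g i)⁻¹ = tor D A c' := ⟨_, nS_conj_tor g hi c⟩
  have hk : k * k = 1 := by
    have := eta_sq (F := F) g hi hr
    simpa [k] using this
  have h3 : chi D A c' r' = chi D A c r :=
    chi_of_conj g hc' hr hr' (fun t => nS_conj_xG g hi hr t) (fun e => by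
      simp only [k] at hk; rw [e, zero_mul] at hk; exact zero_ne_one hk)
  have hne : (chi D A c' r' : F) ≠ 1 := by rw [h3]; exact hx.cs_ne hm hr
  show x * hx.tw c r t * x⁻¹ = hx.tw (hx.cs hm r') r' (k * t)
  rw [hx.tw_conj (c' := c') (by rw [hx', hc']) (fun v => by rw [hx']; exact nS_conj_xG g hi hr v) h3,
    hx.tw_indep hab hr' (hx.cs_ne hm hr') hne]

/-- pairs of roots are separated by the torus, or their lifts commute -/
def Separated : Prop :=
  ∀ r < D.nroots, ∀ s < D.nroots, s ≠ r → s ≠ A.neg r →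
    (∃ c : Fin D.rank → Fˣ, chi D A c r = 1 ∧ (chi D A c s : F) ≠ 1) ∨
      (A.terms r s = [] ∧ ∀ t u, ⁅hx.xL r t, hx.xL s u⁆ = 1)

/-- a torus element fixing one root and moving the other kills the additive defect -/
theorem killAt_of_torus (L : LiftData P₀ p) {r s : ℕ} (hr : r < D.nroots) (hs : s < D.nroots)
    (hsr : s ≠ r) (hsn : s ≠ A.neg r) {c : Fin D.rank → Fˣ} (hcr : chi D A c r = 1)
    (hcs : (chi D A c s : F) ≠ 1) {x : X}
    (hmv : ∀ q < D.nroots, ∀ v, x * L.ψ q v * x⁻¹ = L.ψ q ((chi D A c q : F) * v)) : L.KillAt r s := by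
  intro t hadd u
  have g := h.good
  set β : F := (chi D A c s : F)
  have hinv : ∀ w, L.defect r s t (β * w) = L.defect r s t w := by
    intro w
    have e : x * L.defect r s t w * x⁻¹ = L.defect r s t (β * w) := by
      have hW : x * L.pre.W r s t w * x⁻¹ = L.pre.W r s t (β * w) := by
        rw [Pre.W, Pre.W, ← MulAut.conj_apply, map_list_prod, List.map_map, tword, tword, List.map_map,
          List.map_map]
        refine congrArg List.prod (List.map_congr_left fun q hq => ?_)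
        simp only [Function.comp_def, MulAut.conj_apply, LiftData.pre_X]
        rw [hmv q.1 (terms_mem g hr hs hq).1, chi_term g c hr hs hq, hcr, one_pow, one_mul,
          Units.val_pow_eq_pow_val]
        congr 1
        rw [mul_pow]; ring
      have hr' := hmv r hr t
      rw [hcr, Units.val_one, one_mul] at hr'
      simp only [LiftData.defect]
      calc x * ((L.ψ r t * L.ψ s w * L.pre.W r s t w)⁻¹ * (L.ψ s w * L.ψ r t)) * x⁻¹
          = ((x * L.ψ r t * x⁻¹) * (x * L.ψ s w * x⁻¹) * (x * L.pre.W r s t w * x⁻¹))⁻¹ *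
              ((x * L.ψ s w * x⁻¹) * (x * L.ψ r t * x⁻¹)) := by group
        _ = _ := by rw [hr', hW, hmv s hs w]
    rw [← e, ← (L.defect_central hx.data hr hs hsr hsn t w x).eq, mul_inv_cancel_right]
  have h0 : ∀ w, L.defect r s t ((β - 1) * w) = 1 := fun w => by
    have := hadd ((β - 1) * w) w
    rw [show (β - 1) * w + w = β * w by ring, hinv] at this
    exact mul_eq_right.1 this.symm
  have := h0 (u / (β - 1))
  rwa [mul_div_cancel₀ _ (sub_ne_zero.2 hcs)] at this


theorem kill (hm : Movable D A F) (hab : hx.AbAll) (hsep : hx.Separated) :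
    (hx.liftData hm hab).Kill := by
  intro r hr s hs hsr hsn
  left
  intro t hadd u
  have g := h.good
  set L := hx.liftData hm hab
  have hψ : ∀ q < D.nroots, ∀ v, P₀.π (p (L.ψ q v)) = xG h.good q v := fun q hq v => by
    rw [L.lift q hq, P₀.proj q hq]
  rcases hsep r hr s hs hsr hsn with ⟨c, hcr, hcs⟩ | ⟨hnil, hcom⟩
  rotate_left
  · have hW : L.pre.W r s t u = 1 := by simp [Pre.W, tword, hnil]
    rw [LiftData.defect, hW, mul_one, inv_mul_eq_one]
    refine commutatorElement_eq_one_iff_mul_comm.1 ?_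
    rw [hx.cc (x' := hx.xL r t) (y' := hx.xL s u) (by rw [hψ r hr, hx.π_xL]) (by rw [hψ s hs, hx.π_xL])]
    exact hcom t u
  set x := hx.tL c
  have hmv : ∀ q < D.nroots, ∀ v, x * L.ψ q v * x⁻¹ = L.ψ q ((chi D A c q : F) * v) := fun q hq v =>
    hx.tw_conj (by rw [hx.π_tL, tor_mul_comm, mul_inv_cancel_right])
      (fun v => by rw [hx.π_tL]; exact tor_conj_xG g c hq v) rfl v
  exact hx.killAt_of_torus L hr hs hsr hsn hcr hcs hmv t hadd u

/-- a field with more than four elements moves and separates the roots -/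
theorem movable_of_large (g : Good D A) (hK : ∃ s : Finset F, 4 < s.card) : Movable D A F := by
  intro r hr
  obtain ⟨a, ha⟩ := exists_pow_ne hK (n := 2) two_pos (by omega)
  refine ⟨fun j : Fin D.rank => a ^ A.coro r j.val, ?_⟩
  rw [chi_coro, pr_self g r hr, zpow_two, Units.val_mul, ← pow_two]
  exact ha

theorem separated_of_large (hP : prChk D A = true) (hK : ∃ s : Finset F, 4 < s.card) :
    hx.Separated := by
  intro r hr s hs hsr hsn
  have g := h.good
  left
  rcases pr_bound g hP r hr s hs hsr hsn with h0 | ⟨h1, h3⟩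
  · obtain ⟨b, hb⟩ := exists_pow_ne hK (n := 2) two_pos (by omega)
    refine ⟨fun j => b ^ A.coro s j.val, by rw [chi_coro, h0, zpow_zero], ?_⟩
    rw [chi_coro, pr_self g s hs, zpow_two, Units.val_mul, ← pow_two]
    exact hb
  · set m := pr D A s r
    set n := pr D A r s
    obtain ⟨e, he⟩ : ∃ e : ℕ, (e : ℤ) = 4 - n * m := ⟨(4 - n * m).toNat, Int.toNat_of_nonneg (by omega)⟩
    obtain ⟨b, hb⟩ := exists_pow_ne hK (n := e) (by omega) (by omega)
    refine ⟨(fun j => b ^ A.coro s j.val) ^ (2 : ℤ) * (fun j => b ^ A.coro r j.val) ^ (-m), ?_, ?_⟩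
    · rw [chi_mul, chi_zpow, chi_zpow, chi_coro, chi_coro, pr_self g r hr, ← _root_.zpow_mul,
        ← _root_.zpow_mul, ← _root_.zpow_add, show m * 2 + 2 * -m = 0 by ring, zpow_zero]
    · rw [chi_mul, chi_zpow, chi_zpow, chi_coro, chi_coro, pr_self g s hs, ← _root_.zpow_mul,
        ← _root_.zpow_mul, ← _root_.zpow_add, show (2 : ℤ) * 2 + n * -m = (e : ℤ) by rw [he]; ring,
        zpow_natCast, Units.val_pow_eq_pow_val]
      exact hb

/-- separated extensions with commuting root lifts have lifts satisfying the relations -/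
theorem exists_isSt (hm : Movable D A F) (hab : hx.AbAll) (hsep : hx.Separated) :
    ∃ L : LiftData P₀ p, IsSt L.pre :=
  ⟨_, (hx.liftData hm hab).isSt hx.data (hx.kill hm hab hsep) (hx.equiv hm hab)⟩

end Ext

end CfsgLib.Steinberg
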